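import Cfsg.Agent.Lib.OrthMax.Two.Main

/-!
Decompositions of an even-dimensional orthogonal space: the statement for all member dimensions at least two.
-/

set_option autoImplicit false
set_option linter.unusedSectionVars false

namespace Cfsg.Agent.Lib.OrthMax

open QuadraticMap

variable {ι : Type} [Fintype ι] [DecidableEq ι] {F : Type*} [Field F] [Fintype F]

theorem plus_transfer {Q : (ι → F) → F} {W W' : Submodule F (ι → F)} (h : Cfsg.Geo.AreIsometricFor Q W W')
    (hp : Cfsg.Geo.IsPlusTypeOn Q W) : Cfsg.Geo.IsPlusTypeOn Q W' := by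
  obtain ⟨e, he⟩ := h
  obtain ⟨U, hUW, hUs, hUr⟩ := hp
  let f : U →ₗ[F] (ι → F) := W'.subtype.comp (e.toLinearMap.comp (Submodule.inclusion hUW))
  refine ⟨LinearMap.range f, ?_, ?_, ?_⟩
  · rintro _ ⟨u, rfl⟩; exact (e _).2
  · rintro _ ⟨u, rfl⟩
    show Q ((e (Submodule.inclusion hUW u) : W') : ι → F) = 0
    rw [he]; exact hUs _ u.2
  · have hf : Function.Injective f := by
      intro u v huv
      exact Submodule.inclusion_injective hUW (e.injective (W'.subtype_injective huv))
    rw [LinearMap.finrank_range_of_inj hf, hUr, e.finrank_eq]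

theorem isMaximalIn_even (Q : (ι → F) → F) (hQ : Cfsg.Geo.IsNondegenerateQuadraticForm Q)
    (hn : 13 ≤ Fintype.card ι) {t k : ℕ} (D : Fin t → Submodule F (ι → F))
    (hD : Cfsg.Geo.IsOrthogonalMDecomposition Q k D) (hk : 2 ≤ k)
    (h2 : k = 2 → Fintype.card F ≠ 3 ∧
      ((∀ i, Cfsg.Geo.IsPlusTypeOn Q (D i)) → 7 ≤ Fintype.card F))
    (h3 : k = 3 → (2 : F) ≠ 0 ∧ 5 ≤ Fintype.card F)
    (h4 : k = 4 → Fintype.card F = 2 → ¬ ∀ i, Cfsg.Geo.IsPlusTypeOn Q (D i)) :
    Cfsg.Geo.IsMaximalIn (Cfsg.Geo.omegaGL Q) (Cfsg.Geo.decompositionStabilizer D ⊓ Cfsg.Geo.omegaGL Q) := by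
  classical
  have hb := Forms.nondegenerate_bundleQuad Q hQ
  have hc := Forms.coe_bundleQuad Q hQ
  have h : Dec (Forms.bundleQuad Q hQ) k D := ⟨by rw [hc]; exact hD.decomp⟩
  have hall : ∀ i, Cfsg.Geo.IsPlusTypeOn Q (D i) → ∀ j, Cfsg.Geo.IsPlusTypeOn Q (D j) :=
    fun i hi j => plus_transfer (hD.isometric i j) hi
  by_cases hk2 : k = 2
  · subst hk2
    obtain ⟨hq3, hplus⟩ := h2 rfl
    have hcard := h.card_eq
    have key := Two.isMaximalIn_planes hb h (by omega) (fun i j => by rw [hc]; exact hD.isometric i j) (by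
      by_cases hsing : ∀ i, ∀ x ∈ D i, Forms.bundleQuad Q hQ x = 0 → x = 0
      · exact Or.inr ⟨hsing, hq3⟩
      push Not at hsing
      obtain ⟨i, x, hx, hxQ, hx0⟩ := hsing
      refine Or.inl (hplus (hall i ⟨F ∙ x, ?_, ?_, ?_⟩))
      · rwa [Submodule.span_le, Set.singleton_subset_iff]
      · intro y hy
        obtain ⟨c, rfl⟩ := Submodule.mem_span_singleton.mp hy
        rw [← hc, QuadraticMap.map_smul, hxQ, smul_zero]
      · rw [finrank_span_singleton hx0, h.finrank_eq])
    rw [hc] at key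
    exact key
  have key := isMaximalIn_decomp hb (by omega) h (by omega)
    (fun hk3 => by rw [Nat.card_eq_fintype_card]; exact h3 hk3)
    (fun hk4 hq i x hx z hz hxQ hzQ hxz hx0 => by
      by_contra hne
      push Not at hne
      have hli := linearIndependent_pair_of_notMem hx0 fun hm => by
        obtain ⟨c, hc'⟩ := Submodule.mem_span_singleton.mp hm
        exact hne c hc'.symm
      refine h4 hk4 (by rwa [Nat.card_eq_fintype_card] at hq)
        (hall i ⟨Submodule.span F (Set.range ![x, z]), ?_, ?_, ?_⟩)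
      · rw [Submodule.span_le]
        rintro _ ⟨o, rfl⟩; fin_cases o <;> assumption
      · intro y hy
        rw [Matrix.range_cons, Matrix.range_cons, Matrix.range_empty, Set.union_empty, Set.singleton_union,
          Submodule.mem_span_pair] at hy
        obtain ⟨a, b, rfl⟩ := hy
        rw [← hc, QuadraticMap.map_add (⇑(Forms.bundleQuad Q hQ)), QuadraticMap.map_smul, QuadraticMap.map_smul,
          polar_smul_left, polar_smul_right, hxQ, hzQ, hxz]
        simp
      · rw [finrank_span_eq_card hli, h.finrank_eq, hk4]; rfl)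
    (Or.inr fun i j => by rw [hc]; exact hD.isometric i j)
  rw [hc] at key
  exact key

/-- A finite field with more than five elements has at least seven. -/
theorem seven_le_card {F : Type*} [Field F] [Fintype F] (h : ¬ (Fintype.card F = 2 ∨ Fintype.card F = 3 ∨
    Fintype.card F = 4 ∨ Fintype.card F = 5)) : 7 ≤ Fintype.card F := by
  have h1 := Fintype.one_lt_card (α := F)
  obtain ⟨p, _⟩ := CharP.exists F
  obtain ⟨n, hp, hn⟩ := FiniteField.card F p
  have h6 : Fintype.card F ≠ 6 := fun e => by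
    rw [e] at hn
    have hd2 : 2 ∣ p := Nat.Prime.dvd_of_dvd_pow Nat.prime_two (hn ▸ (by norm_num : 2 ∣ 6))
    have hd3 : 3 ∣ p := Nat.Prime.dvd_of_dvd_pow Nat.prime_three (hn ▸ (by norm_num : 3 ∣ 6))
    rw [Nat.prime_dvd_prime_iff_eq Nat.prime_two hp] at hd2
    rw [Nat.prime_dvd_prime_iff_eq Nat.prime_three hp] at hd3
    omega
  omega

end Cfsg.Agent.Lib.OrthMax
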