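import Cfsg.Agent.Lib.SingMax.Basic

/-!
Orthogonal decompositions: projections, and the displacement of Eichler elements inside a summand.
-/

set_option autoImplicit false
set_option linter.unusedSectionVars false

namespace Cfsg.Agent.Lib.OrthMax

open Matrix QuadraticMap
open Cfsg.Agent.Lib.FormMax.OrthSL (eichlerGL eichlerGL_mulVec Q_eichlerGL)

variable {ι : Type} [Fintype ι] [DecidableEq ι] {F : Type*} [Field F]
  {Q : QuadraticForm F (ι → F)}

local notation "Vs" => (ι → F)

/-- The action on column vectors. -/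
abbrev ap (g : GL ι F) (v : Vs) : Vs := (g : Matrix ι ι F) *ᵥ v

theorem ap_mul (g h : GL ι F) (v : Vs) : ap (g * h) v = ap g (ap h v) := by
  simp [ap, mulVec_mulVec]

theorem ap_one (v : Vs) : ap (1 : GL ι F) v = v := by simp [ap]

theorem ap_inv_ap (g : GL ι F) (v : Vs) : ap g⁻¹ (ap g v) = v := by
  rw [← ap_mul, inv_mul_cancel, ap_one]

theorem ap_ap_inv (g : GL ι F) (v : Vs) : ap g (ap g⁻¹ v) = v := by
  rw [← ap_mul, mul_inv_cancel, ap_one]

theorem ap_injective (g : GL ι F) : Function.Injective (ap g) := fun x y h => by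
  simpa [ap_inv_ap] using congrArg (ap g⁻¹) h

theorem ap_add (g : GL ι F) (u v : Vs) : ap g (u + v) = ap g u + ap g v := mulVec_add _ _ _

theorem ap_sub (g : GL ι F) (u v : Vs) : ap g (u - v) = ap g u - ap g v := mulVec_sub _ _ _

theorem ap_smul (g : GL ι F) (c : F) (v : Vs) : ap g (c • v) = c • ap g v := mulVec_smul _ _ _

variable (Q) in
/-- The displacement of the Eichler element with centre `e` along `b`. -/
def R (e b x : Vs) : Vs :=
  polar ⇑Q e x • b - (polar ⇑Q b x + Q b * polar ⇑Q e x) • e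

theorem ap_E {e b : Vs} (he : Q e = 0) (hb : polar ⇑Q e b = 0) (x : Vs) :
    ap (eichlerGL Q e b he hb) x = x + R Q e b x := by
  rw [ap, eichlerGL_mulVec, R]; abel

theorem R_of_orth {e b x : Vs} (he : polar ⇑Q e x = 0) (hb : polar ⇑Q b x = 0) : R Q e b x = 0 := by
  simp [R, he, hb]

theorem R_mem {X : Submodule F Vs} {e b : Vs} (he : e ∈ X) (hb : b ∈ X) (x : Vs) : R Q e b x ∈ X :=
  X.sub_mem (X.smul_mem _ hb) (X.smul_mem _ he)

theorem R_congr {e b x x' : Vs} (he : polar ⇑Q e x = polar ⇑Q e x') (hb : polar ⇑Q b x = polar ⇑Q b x') :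
    R Q e b x = R Q e b x' := by
  simp [R, he, hb]

theorem R_add {e b b' x : Vs} :
    R Q e (b + b') x - R Q e b x - R Q e b' x = -(polar ⇑Q b b' * polar ⇑Q e x) • e := by
  simp only [R, QuadraticMap.map_add (⇑Q), polar_add_left, neg_smul]
  module

theorem R_smul {e b x : Vs} (c : F) :
    R Q e (c • b) x =
      c • (polar ⇑Q e x • b - polar ⇑Q b x • e) - (c * c) • ((Q b * polar ⇑Q e x) • e) := by
  simp only [R, QuadraticMap.map_smul, polar_smul_left, smul_eq_mul]
  module

/-- A decomposition into pairwise orthogonal nondegenerate summands. -/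
structure Dec (Q : QuadraticForm F (ι → F)) {t : ℕ} (k : ℕ) (D : Fin t → Submodule F (ι → F)) : Prop where
  nd : Cfsg.Geo.IsNondegenerateMDecomposition (polar ⇑Q) k D

namespace Dec

variable {t k : ℕ} {D : Fin t → Submodule F (ι → F)}

theorem orth (h : Dec Q k D) {i j : Fin t} (hij : i ≠ j) {x y : Vs} (hx : x ∈ D i) (hy : y ∈ D j) :
    polar ⇑Q x y = 0 := h.nd.orthogonal i j hij x hx y hy

theorem exists_ne (h : Dec Q k D) {i : Fin t} {x : Vs} (hx : x ∈ D i) (h0 : x ≠ 0) :
    ∃ y ∈ D i, polar ⇑Q x y ≠ 0 := (h.nd.nondegenerate i x hx h0).2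

theorem disjoint (h : Dec Q k D) {i j : Fin t} (hij : i ≠ j) {x : Vs} (hx : x ∈ D i) (hy : x ∈ D j) :
    x = 0 := by
  by_contra h0
  obtain ⟨y, hyi, hne⟩ := h.exists_ne hx h0
  exact hne (h.orth hij.symm hy hyi)

/-- Sum of the components. -/
noncomputable def sumHom (D : Fin t → Submodule F (ι → F)) : (∀ i, D i) →ₗ[F] (ι → F) :=
  { toFun := fun p => ∑ i, (p i : Vs)
    map_add' := fun p q => by simp [Finset.sum_add_distrib]
    map_smul' := fun c p => by simp [Finset.smul_sum] }

theorem polar_sum_mem (h : Dec Q k D) (p : ∀ i, D i) (i : Fin t) {x : Vs} (hx : x ∈ D i) :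
    polar ⇑Q (sumHom D p) x = polar ⇑Q (p i : Vs) x := by
  show polar ⇑Q (∑ j, (p j : Vs)) x = _
  rw [← QuadraticMap.polarBilin_apply_apply, map_sum, LinearMap.sum_apply]
  simp only [QuadraticMap.polarBilin_apply_apply]
  exact Finset.sum_eq_single i (fun j _ hj => h.orth hj (p j).2 hx) (by simp)

theorem sumHom_bijective (h : Dec Q k D) : Function.Bijective (sumHom D) := by
  refine ⟨(injective_iff_map_eq_zero _).mpr fun p hp => funext fun i => ?_, ?_⟩
  · by_contra h0
    obtain ⟨x, hx, hne⟩ := h.exists_ne (p i).2 (fun e => h0 (Subtype.ext e))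
    rw [← h.polar_sum_mem p i hx, hp, polar_zero_left] at hne
    exact hne rfl
  · rw [← LinearMap.range_eq_top, eq_top_iff, ← h.nd.decomp.iSup_eq_top]
    refine iSup_le fun i x hx => ⟨Pi.single i ⟨x, hx⟩, ?_⟩
    show ∑ j, ((Pi.single i (⟨x, hx⟩ : D i) : ∀ j, D j) j : Vs) = x
    rw [Finset.sum_eq_single i (fun j _ hj => by rw [Pi.single_eq_of_ne hj]; rfl) (by simp),
      Pi.single_eq_same]

/-- The component in the `i`-th summand. -/
noncomputable def proj (h : Dec Q k D) (i : Fin t) : Vs →ₗ[F] Vs :=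
  (D i).subtype.comp ((LinearMap.proj i).comp
    (LinearEquiv.ofBijective (sumHom D) h.sumHom_bijective).symm.toLinearMap)

theorem proj_mem (h : Dec Q k D) (i : Fin t) (v : Vs) : h.proj i v ∈ D i := Submodule.coe_mem _

theorem sum_proj (h : Dec Q k D) (v : Vs) : ∑ i, h.proj i v = v :=
  (LinearEquiv.ofBijective (sumHom D) h.sumHom_bijective).apply_symm_apply v

theorem polar_proj (h : Dec Q k D) {i : Fin t} {x : Vs} (hx : x ∈ D i) (v : Vs) :
    polar ⇑Q (h.proj i v) x = polar ⇑Q v x := by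
  rw [← h.polar_sum_mem (fun j => ⟨h.proj j v, h.proj_mem j v⟩) i hx]
  congr 1
  exact h.sum_proj v

theorem polar_proj' (h : Dec Q k D) {i : Fin t} {x : Vs} (hx : x ∈ D i) (v : Vs) :
    polar ⇑Q x (h.proj i v) = polar ⇑Q x v := by
  rw [polar_comm _ x, polar_comm _ x]; exact h.polar_proj hx v

theorem proj_eq (h : Dec Q k D) {i : Fin t} {x v : Vs} (hx : x ∈ D i)
    (hp : ∀ y ∈ D i, polar ⇑Q x y = polar ⇑Q v y) : h.proj i v = x := by
  by_contra hne
  obtain ⟨y, hy, hyne⟩ := h.exists_ne ((D i).sub_mem (h.proj_mem i v) hx) (sub_ne_zero.mpr hne)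
  rw [polar_sub_left, h.polar_proj hy, hp y hy, sub_self] at hyne
  exact hyne rfl

theorem proj_of_mem (h : Dec Q k D) {i : Fin t} {v : Vs} (hv : v ∈ D i) : h.proj i v = v :=
  h.proj_eq hv fun _ _ => rfl

theorem proj_of_mem_ne (h : Dec Q k D) {i j : Fin t} (hij : j ≠ i) {v : Vs} (hv : v ∈ D i) :
    h.proj j v = 0 :=
  h.proj_eq (D j).zero_mem fun y hy => by rw [polar_zero_left, h.orth hij.symm hv hy]

theorem mem_of_proj (h : Dec Q k D) {i : Fin t} {v : Vs} (hv : ∀ j, j ≠ i → h.proj j v = 0) :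
    v ∈ D i := by
  rw [← h.sum_proj v, Finset.sum_eq_single i (fun j _ hj => hv j hj) (by simp)]
  exact h.proj_mem i v

theorem exists_in (h : Dec Q k D) (hQ : (QuadraticMap.polarBilin Q).Nondegenerate) {m : ℕ} {u : Fin m → Vs}
    {i : Fin t} (hu : ∀ l, u l ∈ D i) (hli : LinearIndependent F u) (c : Fin m → F) :
    ∃ v ∈ D i, ∀ l, polar ⇑Q (u l) v = c l := by
  obtain ⟨r, hr⟩ := Forms.exists_polar_eq hQ hli c
  exact ⟨h.proj i r, h.proj_mem i r, fun l => by rw [h.polar_proj' (hu l), hr]⟩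

theorem finrank_eq (h : Dec Q k D) (i : Fin t) : Module.finrank F (D i) = k := h.nd.decomp.finrank_eq i

end Dec

/-- The kernel of a polar functional on a subspace. -/
theorem le_finrank_inf_ker (X : Submodule F Vs) (φ : Vs →ₗ[F] F) :
    Module.finrank F X ≤ Module.finrank F (X ⊓ LinearMap.ker φ : Submodule F Vs) + 1 := by
  have h1 := (φ.comp X.subtype).finrank_range_add_finrank_ker
  have h2 : Module.finrank F (φ.comp X.subtype).range ≤ 1 := by
    simpa using Submodule.finrank_le (φ.comp X.subtype).range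
  have h3 : Module.finrank F (φ.comp X.subtype).ker = Module.finrank F (X ⊓ LinearMap.ker φ : Submodule F Vs) := by
    rw [LinearMap.ker_comp, ← Submodule.map_comap_subtype]
    exact (Submodule.equivMapOfInjective _ X.subtype_injective _).finrank_eq
  omega

theorem exists_mem_notMem {S T : Submodule F Vs} (h : Module.finrank F T < Module.finrank F S) :
    ∃ b ∈ S, b ∉ T := by
  by_contra hc
  push Not at hc
  exact absurd (Submodule.finrank_mono hc) (by omega)

theorem finrank_span_pair_le (u v : Vs) : Module.finrank F (Submodule.span F {u, v}) ≤ 2 := by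
  classical
  have h := finrank_span_le_card (R := F) ({u, v} : Set Vs)
  refine h.trans ?_
  rw [Set.toFinset_insert, Set.toFinset_singleton]
  exact (Finset.card_insert_le _ _).trans (by simp)

/-- A three-dimensional subspace has a singular vector. -/
theorem exists_singular_mem [Finite F] {K : Submodule F Vs} (hK : 3 ≤ Module.finrank F K) :
    ∃ e ∈ K, e ≠ 0 ∧ Q e = 0 := by
  by_cases h2 : (2 : F) = 0
  swap
  · let L : (Fin (Module.finrank F K) → F) →ₗ[F] Vs :=
      K.subtype.comp (Module.finBasis F K).equivFun.symm.toLinearMap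
    obtain ⟨c, hc0, hc⟩ := FormMax.OrthSL.exists_zero_fin h2 hK (Q.comp L)
    exact ⟨L c, ((Module.finBasis F K).equivFun.symm c).2, fun e => hc0 <| by
      have := Subtype.val_injective.comp (Module.finBasis F K).equivFun.symm.injective
      exact this (show L c = L 0 by rw [e, map_zero]), hc⟩
  haveI : CharP F 2 := CharTwo.of_one_ne_zero_of_two_eq_zero one_ne_zero h2
  have sq_root : ∀ x : F, ∃ y : F, y * y = x := fun x => by
    obtain ⟨y, hy⟩ := surjective_frobenius F 2 x
    exact ⟨y, by rw [← hy, frobenius_def, pow_two]⟩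
  by_contra hcon
  push Not at hcon
  obtain ⟨k₁, hk₁, hk₁'⟩ := exists_mem_notMem (S := K) (T := ⊥) (by rw [finrank_bot]; omega)
  have hQ₁ : Q k₁ ≠ 0 := hcon k₁ hk₁ (by simpa using hk₁')
  obtain ⟨k₂, hk₂, hk₂'⟩ := exists_mem_notMem (S := K ⊓ LinearMap.ker (QuadraticMap.polarBilin Q k₁))
    (T := F ∙ k₁) (by
      have h1 := le_finrank_inf_ker K (QuadraticMap.polarBilin Q k₁)
      rw [finrank_span_singleton (by simpa using hk₁')]; omega)
  obtain ⟨α, hα⟩ := sq_root (Q k₂)
  obtain ⟨β, hβ⟩ := sq_root (Q k₁)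
  have hp : polar ⇑Q k₁ k₂ = 0 := hk₂.2
  have hβ0 : β ≠ 0 := fun h0 => hQ₁ (by rw [← hβ, h0, mul_zero])
  refine hcon (α • k₁ + β • k₂) (K.add_mem (K.smul_mem _ hk₁) (K.smul_mem _ hk₂.1)) (fun h => hk₂' ?_) ?_
  · rw [Submodule.mem_span_singleton]
    refine ⟨-(β⁻¹ * α), ?_⟩
    have h' := congrArg (β⁻¹ • ·) h
    simp only [smul_add, smul_smul, smul_zero, inv_mul_cancel₀ hβ0, one_smul] at h'
    rw [neg_smul]
    exact (eq_neg_of_add_eq_zero_right h').symm
  · rw [QuadraticMap.map_add (⇑Q), QuadraticMap.map_smul, QuadraticMap.map_smul, polar_smul_left,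
      polar_smul_right, hp, smul_eq_mul, smul_eq_mul, hα, hβ, smul_zero, smul_zero, add_zero,
      mul_comm, CharTwo.add_self_eq_zero]

theorem linearIndependent_pair_of_notMem {e b : Vs} (he : e ≠ 0) (hb : b ∉ (F ∙ e)) :
    LinearIndependent F ![e, b] :=
  (LinearIndependent.pair_iff' he).mpr fun c h => hb (h ▸ Submodule.smul_mem _ c (Submodule.mem_span_singleton_self e))

namespace Dec

variable {t k : ℕ} {D : Fin t → Submodule F (ι → F)}

/-- A singular vector has a singular partner in its summand. -/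
theorem exists_partner (h : Dec Q k D) (hQ : (QuadraticMap.polarBilin Q).Nondegenerate) {i : Fin t} {e : Vs}
    (he : e ∈ D i) (he0 : e ≠ 0) (heQ : Q e = 0) :
    ∃ d ∈ D i, Q d = 0 ∧ polar ⇑Q e d = 1 := by
  obtain ⟨v, hv, hev⟩ := h.exists_in hQ (u := ![e]) (i := i) (fun l => by fin_cases l; exact he)
    (LinearIndependent.of_subsingleton (i := (0 : Fin 1)) he0) ![1]
  have hev1 : polar ⇑Q e v = 1 := hev 0
  refine ⟨v - Q v • e, (D i).sub_mem hv ((D i).smul_mem _ he), ?_, ?_⟩
  · rw [sub_eq_add_neg, QuadraticMap.map_add (⇑Q), QuadraticMap.map_neg, QuadraticMap.map_smul,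
      polar_neg_right, polar_smul_right, polar_comm _ v e, hev1, heQ]
    simp
  · rw [polar_sub_right, polar_smul_right, polar_self, heQ, hev1]
    simp

/-- A non-zero vector orthogonal to a hyperbolic pair. -/
theorem exists_perp_pair (h : Dec Q k D) (hk : 3 ≤ k) {i : Fin t} {e d : Vs} (he : e ∈ D i) (hd : d ∈ D i)
    (heQ : Q e = 0) (hdQ : Q d = 0) (hed : polar ⇑Q e d = 1) :
    ∃ b ∈ D i, b ∉ (F ∙ e) ∧ b ≠ 0 ∧ polar ⇑Q e b = 0 ∧ polar ⇑Q d b = 0 := by
  obtain ⟨w, hw, hwn⟩ := exists_mem_notMem (S := D i) (T := Submodule.span F {e, d}) (by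
    have := finrank_span_pair_le (F := F) e d
    rw [h.finrank_eq]; omega)
  have hne : ∀ c : F, w - polar ⇑Q d w • e - polar ⇑Q e w • d ≠ c • e := by
    intro c hc
    apply hwn
    have h1 : w = (c + polar ⇑Q d w) • e + polar ⇑Q e w • d := by
      linear_combination (norm := module) hc
    rw [h1]
    exact Submodule.add_mem _ (Submodule.smul_mem _ _ (Submodule.subset_span (by simp)))
      (Submodule.smul_mem _ _ (Submodule.subset_span (by simp)))
  refine ⟨w - polar ⇑Q d w • e - polar ⇑Q e w • d,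
    (D i).sub_mem ((D i).sub_mem hw ((D i).smul_mem _ he)) ((D i).smul_mem _ hd), fun hm => ?_,
    fun h0 => hne 0 (by rw [h0, zero_smul]), ?_, ?_⟩
  · obtain ⟨c, hc⟩ := Submodule.mem_span_singleton.mp hm
    exact hne c hc.symm
  · rw [polar_sub_right, polar_sub_right, polar_smul_right, polar_smul_right, polar_self, heQ, hed]
    simp
  · rw [polar_sub_right, polar_sub_right, polar_smul_right, polar_smul_right, polar_self, hdQ,
      polar_comm _ d e, hed]
    simp

/-- An additive group containing all displacements of `z` by Eichler elements of a summand contains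
the summand. -/
theorem le_of_R (h : Dec Q k D) (hQ : (QuadraticMap.polarBilin Q).Nondegenerate) [Finite F] (hk : 3 ≤ k)
    {i : Fin t} (A : AddSubgroup Vs) {z : Vs} (hz : h.proj i z ≠ 0)
    (hA : ∀ e ∈ D i, ∀ b ∈ D i, Q e = 0 → polar ⇑Q e b = 0 → R Q e b z ∈ A) :
    ∀ x ∈ D i, x ∈ A := by
  have hline : ∀ e ∈ D i, Q e = 0 → polar ⇑Q e z ≠ 0 → ∀ s ∈ D i, polar ⇑Q e s = 0 → s ∈ A := by
    intro e he heQ hez
    have he0 : e ≠ 0 := fun h0 => hez (by rw [h0, polar_zero_left])
    obtain ⟨d, hd, hdQ, hed⟩ := h.exists_partner hQ he he0 heQ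
    obtain ⟨b, hb, hbn, -, heb, -⟩ := h.exists_perp_pair hk he hd heQ hdQ hed
    obtain ⟨b', hb', hbb⟩ := h.exists_in hQ (u := ![e, b]) (i := i)
      (fun l => by fin_cases l <;> assumption) (linearIndependent_pair_of_notMem he0 hbn) ![0, 1]
    have heb' : polar ⇑Q e b' = 0 := hbb 0
    have hbb' : polar ⇑Q b b' = 1 := hbb 1
    have hcent : ∀ c : F, c • e ∈ A := by
      intro c
      set s := -(c / polar ⇑Q e z) with hs
      have h1 := A.sub_mem (A.sub_mem
        (hA e he (s • b + b') ((D i).add_mem ((D i).smul_mem _ hb) hb') heQ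
          (by rw [polar_add_right, polar_smul_right, heb, heb', smul_zero, add_zero]))
        (hA e he (s • b) ((D i).smul_mem _ hb) heQ (by rw [polar_smul_right, heb, smul_zero])))
        (hA e he b' hb' heQ heb')
      rw [R_add, polar_smul_left, hbb', smul_eq_mul, mul_one, hs, neg_mul, neg_neg,
        div_mul_cancel₀ _ hez] at h1
      exact h1
    intro s hs hes
    have h1 := hA e he ((polar ⇑Q e z)⁻¹ • s) ((D i).smul_mem _ hs) heQ
      (by rw [polar_smul_right, hes, smul_zero])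
    rw [R, smul_smul, mul_inv_cancel₀ hez, one_smul] at h1
    have h2 := A.add_mem h1 (hcent (polar ⇑Q ((polar ⇑Q e z)⁻¹ • s) z +
      Q ((polar ⇑Q e z)⁻¹ • s) * polar ⇑Q e z))
    rwa [sub_add_cancel] at h2
  obtain ⟨e₀, he₀, he₀0, he₀Q⟩ := exists_singular_mem (Q := Q) (K := D i) (by rw [h.finrank_eq]; exact hk)
  obtain ⟨d₀, hd₀, hd₀Q, hed₀⟩ := h.exists_partner hQ he₀ he₀0 he₀Q
  obtain ⟨e, he, heQ, hez⟩ : ∃ e ∈ D i, Q e = 0 ∧ polar ⇑Q e z ≠ 0 := by
    by_contra hc
    push Not at hc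
    obtain ⟨x, hx, hxne⟩ := h.exists_ne (h.proj_mem i z) hz
    rw [h.polar_proj hx] at hxne
    have hd : polar ⇑Q d₀ z = 0 := hc d₀ hd₀ hd₀Q
    have he : polar ⇑Q e₀ z = 0 := hc e₀ he₀ he₀Q
    have hperp : ∀ b ∈ D i, polar ⇑Q d₀ b = 0 → polar ⇑Q b z = 0 := by
      intro b hb hdb
      have h1 := hc (e₀ + R Q d₀ b e₀) ((D i).add_mem he₀ (R_mem hd₀ hb _))
        (by rw [← ap_E hd₀Q hdb, ap, Q_eichlerGL, he₀Q])
      rw [R, polar_add_left, he, polar_sub_left, polar_smul_left, polar_smul_left, hd,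
        polar_comm _ d₀ e₀, hed₀] at h1
      simpa using h1
    apply hxne
    have h1 : polar ⇑Q (x - polar ⇑Q d₀ x • e₀) z = 0 := hperp _ ((D i).sub_mem hx ((D i).smul_mem _ he₀))
      (by rw [polar_sub_right, polar_smul_right, polar_comm _ d₀ e₀, hed₀, smul_eq_mul, mul_one, sub_self])
    rw [polar_sub_left, polar_smul_left, he, smul_zero, sub_zero] at h1
    rw [polar_comm, h1]
  have he0 : e ≠ 0 := fun h0 => hez (by rw [h0, polar_zero_left])
  obtain ⟨d, hd, hdQ, hed⟩ := h.exists_partner hQ he he0 heQ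
  by_cases hbz : ∃ b ∈ D i, polar ⇑Q d b = 0 ∧ polar ⇑Q b z ≠ 0
  · -- the partner lies in `A`
    by_cases hdz : polar ⇑Q d z = 0
    swap
    · intro x hx
      have h1 := hline e he heQ hez (x - polar ⇑Q e x • d) ((D i).sub_mem hx ((D i).smul_mem _ hd))
        (by rw [polar_sub_right, polar_smul_right, hed, smul_eq_mul, mul_one, sub_self])
      have h2 := hline d hd hdQ hdz (polar ⇑Q e x • d) ((D i).smul_mem _ hd)
        (by rw [polar_smul_right, polar_self, hdQ, nsmul_zero, smul_zero])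
      have h3 := A.add_mem h1 h2
      rwa [sub_add_cancel] at h3
    obtain ⟨b, hb, hdb, hbz⟩ := hbz
    intro x hx
    have h1 := hline e he heQ hez (x - polar ⇑Q e x • d) ((D i).sub_mem hx ((D i).smul_mem _ hd))
      (by rw [polar_sub_right, polar_smul_right, hed, smul_eq_mul, mul_one, sub_self])
    have h2 := hA d hd ((-polar ⇑Q e x / polar ⇑Q b z) • b) ((D i).smul_mem _ hb) hdQ
      (by rw [polar_smul_right, hdb, smul_zero])
    rw [R, hdz, zero_smul, zero_sub, mul_zero, add_zero, polar_smul_left, smul_eq_mul,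
      div_mul_cancel₀ _ hbz, neg_smul, neg_neg] at h2
    have h3 := A.add_mem h1 h2
    rwa [sub_add_cancel] at h3
  push Not at hbz
  -- move `e` to an independent centre
  obtain ⟨b, hb, -, hb0, heb, hdb⟩ := h.exists_perp_pair hk he hd heQ hdQ hed
  set e' := e + R Q d b e with he'
  have he'D : e' ∈ D i := (D i).add_mem he (R_mem hd hb _)
  have he'eq : e' = e + b - Q b • d := by
    rw [he', R, polar_comm _ d e, hed, polar_comm _ b e, heb]
    simp [add_sub_assoc]
  have he'Q : Q e' = 0 := by rw [he', ← ap_E hdQ hdb, ap, Q_eichlerGL, heQ]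
  have hdd : polar ⇑Q d z = 0 := hbz d hd (by rw [polar_self, hdQ, nsmul_zero])
  have he'z : polar ⇑Q e' z = polar ⇑Q e z := by
    rw [he'eq, polar_sub_left, polar_add_left, polar_smul_left, hdd, hbz b hb hdb]
    simp
  have hli : LinearIndependent F ![e', e] := by
    rw [LinearIndependent.pair_iff]
    intro s s' hss
    have h1 : s = 0 := by
      obtain ⟨x, hx, hxne⟩ := h.exists_ne hb hb0
      by_contra hs0
      have h2 := congrArg (fun w => polar ⇑Q w (x - polar ⇑Q d x • e - polar ⇑Q e x • d)) hss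
      simp only [he'eq, polar_zero_left, polar_add_left, polar_sub_left, polar_smul_left, polar_sub_right,
        polar_smul_right, polar_self, heQ, hdQ, hed, polar_comm (⇑Q) d e, polar_comm (⇑Q) b e, heb,
        polar_comm (⇑Q) b d, hdb, smul_eq_mul, nsmul_zero] at h2
      ring_nf at h2
      exact hxne ((mul_eq_zero.mp h2).resolve_left hs0)
    refine ⟨h1, ?_⟩
    rw [h1, zero_smul, zero_add] at hss
    exact (smul_eq_zero.mp hss).resolve_right he0
  intro x hx
  obtain ⟨s, hs, hse⟩ := h.exists_in hQ (u := ![e', e]) (i := i)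
    (fun l => by fin_cases l <;> assumption) hli ![0, polar ⇑Q e x]
  have h1 := hline e he heQ hez (x - s) ((D i).sub_mem hx hs)
    (by rw [polar_sub_right, show polar ⇑Q e s = polar ⇑Q e x from hse 1, sub_self])
  have h2 := hline e' he'D he'Q (he'z ▸ hez) s hs (hse 0)
  have h3 := A.add_mem h1 h2
  rwa [sub_add_cancel] at h3

end Dec

end Cfsg.Agent.Lib.OrthMax
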