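import Cfsg.Agent.Lib.OrthMax.Basic

/-!
A group containing the root elements of all summands either maps every summand onto a summand, or
contains an element fixing a singular vector and moving its perpendicular space out of its summand.
-/

set_option autoImplicit false
set_option linter.unusedSectionVars false

namespace Cfsg.Agent.Lib.OrthMax

open Matrix QuadraticMap
open Cfsg.Agent.Lib.FormMax.OrthSL (eichlerGL eichlerGL_mulVec Q_eichlerGL)

variable {ι : Type} [Fintype ι] [DecidableEq ι] {F : Type*} [Field F]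
  {Q : QuadraticForm F (ι → F)} {t k : ℕ} {D : Fin t → Submodule F (ι → F)}

local notation "Vs" => (ι → F)

/-- The hypotheses on the decomposition and on the overgroup. -/
structure Conf (Q : QuadraticForm F (ι → F)) {t : ℕ} (k : ℕ) (D : Fin t → Submodule F (ι → F))
    (M : Subgroup (GL ι F)) : Prop where
  nondeg : (QuadraticMap.polarBilin Q).Nondegenerate
  dec : Dec Q k D
  three : 3 ≤ k
  case_three : k = 3 → (2 : F) ≠ 0 ∧ 5 ≤ Nat.card F
  case_four : k = 4 → Nat.card F = 2 → ∀ i, ∀ x ∈ D i, ∀ z ∈ D i,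
    Q x = 0 → Q z = 0 → polar ⇑Q x z = 0 → x ≠ 0 → ∃ c : F, z = c • x
  iso : ∀ g ∈ M, ∀ y, Q (ap g y) = Q y
  root : ∀ i, ∀ e ∈ D i, ∀ b ∈ D i, ∀ (he : Q e = 0) (hb : polar ⇑Q e b = 0), eichlerGL Q e b he hb ∈ M
  comm : ∀ i, ∀ a ∈ D i, ∀ s ∈ D i, ∀ (ha : Q a ≠ 0) (hs : Q s ≠ 0), ∃ g ∈ M, ∀ x,
    ap g x = Orth.reflFun Q a (Orth.reflFun Q s (Orth.reflFun Q a (Orth.reflFun Q s x)))

/-- No element fixing a singular vector of a summand moves its perpendicular space out. -/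
def NG (Q : QuadraticForm F (ι → F)) {t : ℕ} (D : Fin t → Submodule F (ι → F)) (M : Subgroup (GL ι F)) : Prop :=
  ∀ i, ∀ e ∈ D i, e ≠ 0 → Q e = 0 → ∀ m ∈ M, ap m e = e → ∀ z ∈ D i, polar ⇑Q e z = 0 → ap m z ∈ D i

variable (Q D) in
/-- The perpendicular space of a vector in its summand. -/
def Zs (i : Fin t) (e : ι → F) : Submodule F (ι → F) := D i ⊓ LinearMap.ker (QuadraticMap.polarBilin Q e)

variable (Q D) in
/-- Its image. -/
def Ys (g : GL ι F) (i : Fin t) (e : ι → F) : Submodule F (ι → F) :=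
  (Zs Q D i e).map (Matrix.mulVecLin (g : Matrix ι ι F))

variable {M : Subgroup (GL ι F)}

theorem mem_Zs {i : Fin t} {e z : Vs} : z ∈ Zs Q D i e ↔ z ∈ D i ∧ polar ⇑Q e z = 0 := Iff.rfl

theorem mem_Ys {g : GL ι F} {i : Fin t} {e y : Vs} :
    y ∈ Ys Q D g i e ↔ ∃ z, (z ∈ D i ∧ polar ⇑Q e z = 0) ∧ ap g z = y :=
  Submodule.mem_map

/-- The square of a sum over pairwise orthogonal components. -/
theorem Dec.Q_sum (h : Dec Q k D) (v : Vs) (s : Finset (Fin t)) :
    Q (∑ i ∈ s, h.proj i v) = ∑ i ∈ s, Q (h.proj i v) := by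
  induction s using Finset.induction_on with
  | empty => simp
  | insert a s has ih =>
    rw [Finset.sum_insert has, Finset.sum_insert has, QuadraticMap.map_add (⇑Q), ih]
    have h0 : polar ⇑Q (h.proj a v) (∑ i ∈ s, h.proj i v) = 0 := by
      rw [← QuadraticMap.polarBilin_apply_apply, map_sum]
      simp only [QuadraticMap.polarBilin_apply_apply]
      exact Finset.sum_eq_zero fun j hj => h.orth (fun e => has (by rw [e]; exact hj)) (h.proj_mem a v) (h.proj_mem j v)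
    rw [h0, add_zero]

namespace Conf

variable [Finite F] (C : Conf Q k D M)
include C

theorem polar_ap {g : GL ι F} (hg : g ∈ M) (x y : Vs) : polar ⇑Q (ap g x) (ap g y) = polar ⇑Q x y :=
  SingMax.polar_of_iso (C.iso g hg) x y

theorem finrank_Zs {i : Fin t} {e : Vs} (he : e ∈ D i) (he0 : e ≠ 0) :
    Module.finrank F (Zs Q D i e) + 1 = k := by
  have h1 : k ≤ Module.finrank F (Zs Q D i e) + 1 :=
    (C.dec.finrank_eq i) ▸ le_finrank_inf_ker (D i) (QuadraticMap.polarBilin Q e)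
  obtain ⟨v, hv, hne⟩ := C.dec.exists_ne he he0
  have h2 : Zs Q D i e < D i := lt_of_le_of_ne inf_le_left fun heq => hne (heq.ge hv).2
  have h3 := Submodule.finrank_lt_finrank_of_lt h2
  rw [C.dec.finrank_eq] at h3
  omega

theorem finrank_Ys (g : GL ι F) {i : Fin t} {e : Vs} (he : e ∈ D i) (he0 : e ≠ 0) :
    Module.finrank F (Ys Q D g i e) + 1 = k := by
  rw [Ys, ← (Submodule.equivMapOfInjective (Matrix.mulVecLin (g : Matrix ι ι F)) (ap_injective g)
    (Zs Q D i e)).finrank_eq]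
  exact C.finrank_Zs he he0

theorem not_le_Ys (g : GL ι F) {i : Fin t} {e : Vs} (he : e ∈ D i) (he0 : e ≠ 0) (l : Fin t) :
    ¬ D l ≤ Ys Q D g i e := fun hle => by
  have h1 := Submodule.finrank_mono hle
  have h2 := C.finrank_Ys g he he0
  rw [C.dec.finrank_eq] at h1
  omega

theorem polar_Ys {g : GL ι F} (hg : g ∈ M) {i : Fin t} {e y : Vs} (hy : y ∈ Ys Q D g i e) :
    polar ⇑Q (ap g e) y = 0 := by
  obtain ⟨z, ⟨-, hz⟩, rfl⟩ := mem_Ys.mp hy
  rw [C.polar_ap hg, hz]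

theorem self_mem_Ys {g : GL ι F} {i : Fin t} {e : Vs} (he : e ∈ D i) (heQ : Q e = 0) :
    ap g e ∈ Ys Q D g i e :=
  mem_Ys.mpr ⟨e, ⟨he, by rw [polar_self, heQ, nsmul_zero]⟩, rfl⟩

variable (hN : NG Q D M) {g : GL ι F} (hg : g ∈ M) {i : Fin t} {e : ι → F} (he : e ∈ D i) (he0 : e ≠ 0)
  (heQ : Q e = 0)
include hN hg he he0 heQ

/-- Elements of `M` fixing the image of `e` stabilise the image of its perpendicular space. -/
theorem map_Ys {h : GL ι F} (hh : h ∈ M) (hf : ap h (ap g e) = ap g e) {y : Vs} (hy : y ∈ Ys Q D g i e) :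
    ap h y ∈ Ys Q D g i e := by
  obtain ⟨z, ⟨hz, hez⟩, rfl⟩ := mem_Ys.mp hy
  have hm : g⁻¹ * h * g ∈ M := M.mul_mem (M.mul_mem (M.inv_mem hg) hh) hg
  have hme : ap (g⁻¹ * h * g) e = e := by rw [ap_mul, ap_mul, hf, ap_inv_ap]
  refine mem_Ys.mpr ⟨ap (g⁻¹ * h * g) z, ⟨hN i e he he0 heQ _ hm hme z hz hez, ?_⟩, ?_⟩
  · have h1 := C.polar_ap hm e z
    rw [hme, hez] at h1
    exact h1
  · rw [ap_mul, ap_mul, ap_ap_inv]

theorem R_Ys {l : Fin t} {n b : Vs} (hn : n ∈ D l) (hb : b ∈ D l) (hnQ : Q n = 0) (hnb : polar ⇑Q n b = 0)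
    (hnf : polar ⇑Q n (ap g e) = 0) (hbf : polar ⇑Q b (ap g e) = 0) {y : Vs} (hy : y ∈ Ys Q D g i e) :
    R Q n b y ∈ Ys Q D g i e := by
  have h1 := C.map_Ys hN hg he he0 heQ (C.root l n hn b hb hnQ hnb)
    (by rw [ap_E hnQ hnb, R_of_orth hnf hbf, add_zero]) hy
  rw [ap_E hnQ hnb] at h1
  simpa using Submodule.sub_mem _ h1 hy

theorem proj_eq_zero {l : Fin t} (hl : C.dec.proj l (ap g e) = 0) {y : Vs} (hy : y ∈ Ys Q D g i e) :
    C.dec.proj l y = 0 := by
  by_contra hne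
  have hperp : ∀ x ∈ D l, polar ⇑Q x (ap g e) = 0 := fun x hx => by
    rw [← C.dec.polar_proj' hx, hl, polar_zero_right]
  exact C.not_le_Ys g he he0 l fun x hx => C.dec.le_of_R C.nondeg C.three (Ys Q D g i e).toAddSubgroup hne
    (fun n hn b hb hnQ hnb => C.R_Ys hN hg he he0 heQ hn hb hnQ hnb (hperp n hn) (hperp b hb) hy) x hx

/-- A singular image in one summand keeps the perpendicular space there. -/
theorem single {j : Fin t} (hf : ap g e ∈ D j) {z : Vs} (hz : z ∈ D i) (hez : polar ⇑Q e z = 0) :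
    ap g z ∈ D j :=
  C.dec.mem_of_proj fun l hl => C.proj_eq_zero hN hg he he0 heQ (C.dec.proj_of_mem_ne hl hf)
    (mem_Ys.mpr ⟨z, ⟨hz, hez⟩, rfl⟩)

theorem no_singular (hmulti : ∀ j, ap g e ∉ D j) {j : Fin t} {p : Vs} (hp : p ∈ Ys Q D g i e) (hpD : p ∈ D j)
    (hpQ : Q p = 0) : p = 0 := by
  obtain ⟨z, ⟨hz, hez⟩, rfl⟩ := mem_Ys.mp hp
  by_contra h0
  have hz0 : z ≠ 0 := fun h => h0 (by rw [h]; simp [ap])
  have hzQ : Q z = 0 := by rw [← C.iso g hg z, hpQ]
  exact hmulti j (C.single hN hg hz hz0 hzQ hpD he (by rw [polar_comm, hez]))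

end Conf

end Cfsg.Agent.Lib.OrthMax
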