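import Cfsg.Agent.Lib.OrthMax.Dichotomy

/-!
If the image of a singular vector has several components, every component of the image of its
perpendicular space lies on the line of the component of that vector.
-/

set_option autoImplicit false
set_option linter.unusedSectionVars false

namespace Cfsg.Agent.Lib.OrthMax

open Matrix QuadraticMap
open Cfsg.Agent.Lib.FormMax.OrthSL (eichlerGL eichlerGL_mulVec Q_eichlerGL)

variable {ι : Type} [Fintype ι] [DecidableEq ι] {F : Type*} [Field F]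
  {Q : QuadraticForm F (ι → F)} {t k : ℕ} {D : Fin t → Submodule F (ι → F)}
  {M : Subgroup (GL ι F)}

local notation "Vs" => (ι → F)

theorem linearIndependent_triple {u v w : Vs} (hu : u ≠ 0) (hv : v ∉ (F ∙ u))
    (hw : w ∉ Submodule.span F {u, v}) : LinearIndependent F ![u, v, w] := by
  have hp := linearIndependent_pair_of_notMem hu hv
  rw [LinearIndependent.pair_iff] at hp
  rw [Fintype.linearIndependent_iff]
  intro c hc
  simp [Fin.sum_univ_three] at hc
  have h2 : c 2 = 0 := by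
    by_contra h
    apply hw
    rw [Submodule.mem_span_pair]
    refine ⟨-((c 2)⁻¹ * c 0), -((c 2)⁻¹ * c 1), ?_⟩
    have h' := congrArg ((c 2)⁻¹ • ·) hc
    simp only [smul_add, smul_smul, smul_zero, inv_mul_cancel₀ h, one_smul] at h'
    linear_combination (norm := module) -h'
  rw [h2, zero_smul, add_zero] at hc
  obtain ⟨h0, h1⟩ := hp _ _ hc
  intro l
  fin_cases l <;> assumption

theorem eq_one_of_card_two (hq : Nat.card F = 2) {x : F} (hx : x ≠ 0) : x = 1 := by
  obtain ⟨a, b, hab, hu⟩ := Nat.card_eq_two_iff.mp hq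
  have h : ∀ z : F, z = a ∨ z = b := fun z => by
    have hz : z ∈ ({a, b} : Set F) := hu ▸ Set.mem_univ z
    simpa using hz
  rcases h x with rfl | rfl <;> rcases h 1 with h1 | h1 <;> rcases h 0 with h0 | h0 <;>
    first
      | exact h1.symm
      | exact absurd h0.symm hx
      | exact absurd (h0.trans h1.symm) zero_ne_one

theorem exists_ne_three [Finite F] {m : ℕ} (T : Finset F) (hT : T.card < m) (hm : m ≤ Nat.card F) :
    ∃ x : F, x ∉ T := by
  haveI := Fintype.ofFinite F
  rw [Nat.card_eq_fintype_card] at hm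
  by_contra hc
  push Not at hc
  have := Finset.card_le_card (show (Finset.univ : Finset F) ⊆ T from fun x _ => hc x)
  rw [Finset.card_univ] at this
  omega

namespace Conf

variable [Finite F] (C : Conf Q k D M) (hN : NG Q D M) {g : GL ι F} (hg : g ∈ M) {i : Fin t} {e : ι → F}
  (he : e ∈ D i) (he0 : e ≠ 0) (heQ : Q e = 0) (hmulti : ∀ j, ap g e ∉ D j)
include C hN hg he he0 heQ hmulti

theorem exists_other (j : Fin t) : ∃ l, l ≠ j ∧ C.dec.proj l (ap g e) ≠ 0 := by
  by_contra hc
  push Not at hc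
  exact hmulti j (C.dec.mem_of_proj hc)

/-- A root element with centre in another summand gives a contradiction. -/
theorem false_of_cross {j l : Fin t} (hjl : l ≠ j) {p y n b : Vs}
    (hp : p ∈ Ys Q D g i e) (hpD : p ∈ D j) (hy : y ∈ Ys Q D g i e)
    (hn : n ∈ D l) (hn0 : n ≠ 0) (hnQ : Q n = 0) (hnf : polar ⇑Q n (ap g e) = 0)
    (hb : b ∈ D l) (hnb : polar ⇑Q n b = 0) (hbf : polar ⇑Q b (ap g e) = -1)
    (hny : polar ⇑Q n y = 0) (hpy : polar ⇑Q p y ≠ 0) : False := by
  obtain ⟨u, ⟨hu, heu⟩, hup⟩ := mem_Ys.mp hp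
  obtain ⟨z, ⟨hz, hez⟩, hzy⟩ := mem_Ys.mp hy
  have hh := C.root l n hn b hb hnQ hnb
  have hfh : ap (eichlerGL Q n b hnQ hnb) (ap g e) = ap g e + n := by
    rw [ap_E, R, hnf, hbf]; simp
  have hph : ap (eichlerGL Q n b hnQ hnb) (ap g u) = ap g u := by
    rw [ap_E, hup, R_of_orth (C.dec.orth hjl hn hpD) (C.dec.orth hjl hb hpD), add_zero]
  set g' := g⁻¹ * eichlerGL Q n b hnQ hnb * g with hg'
  have hg'M : g' ∈ M := M.mul_mem (M.mul_mem (M.inv_mem hg) hh) hg
  have hu' : ap g' u = u := by rw [hg', ap_mul, ap_mul, hph, ap_inv_ap]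
  have he' : ap g (ap g' e) = ap g e + n := by rw [hg', ap_mul, ap_mul, ap_ap_inv, hfh]
  have hm : eichlerGL Q (ap g' e) (ap g' u) (by rw [C.iso g' hg'M, heQ]) (by rw [C.polar_ap hg'M, heu]) ∈ M := by
    have h1 := M.mul_mem (M.mul_mem hg'M (C.root i e he u hu heQ heu)) (M.inv_mem hg'M)
    rwa [SingMax.conj_E (C.iso g' hg'M)] at h1
  have h1 : polar ⇑Q (ap g' e) e = 0 := by
    rw [← C.polar_ap hg, he', polar_add_left, hnf, polar_self, C.iso g hg, heQ]; simp
  have h2 : polar ⇑Q (ap g' e) z = 0 := by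
    rw [← C.polar_ap hg, he', polar_add_left, hzy, hny, add_zero]
    exact C.polar_Ys hg hy
  have h3 : polar ⇑Q (ap g' u) z = polar ⇑Q p y := by rw [hu', ← C.polar_ap hg, hup, hzy]
  have hme : R Q (ap g' e) (ap g' u) e = 0 := R_of_orth h1 (by rw [hu', polar_comm, heu])
  have h4 := hN i e he he0 heQ _ hm (by rw [ap_E, hme, add_zero]) z hz hez
  rw [ap_E, R, h2, h3, zero_smul, mul_zero, add_zero, zero_sub] at h4
  have h5 : ap g' e ∈ D i := by
    have h6 := (D i).sub_mem hz h4
    rw [sub_add_eq_sub_sub, sub_self, zero_sub, neg_neg] at h6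
    exact (Submodule.smul_mem_iff _ hpy).mp h6
  refine hn0 (C.no_singular hN hg he he0 heQ hmulti (mem_Ys.mpr ⟨ap g' e - e, ⟨(D i).sub_mem h5 he, ?_⟩, ?_⟩) hn hnQ)
  · rw [polar_sub_right, polar_comm, h1, polar_self, heQ]; simp
  · rw [ap_sub, he', add_sub_cancel_left]

/-- The special case of summands of dimension four over the field with two elements. -/
theorem false_of_bad_two (hk : k = 4) (hq : Nat.card F = 2) {j : Fin t}
    (hfj : Q (C.dec.proj j (ap g e)) ≠ 0) {y n : Vs} (hy : y ∈ Ys Q D g i e)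
    (hbad : C.dec.proj j y ∉ (F ∙ C.dec.proj j (ap g e)))
    (hn : n ∈ D j) (hnQ : Q n = 0) (hnf : polar ⇑Q n (ap g e) = 0) (hny : polar ⇑Q n y ≠ 0) : False := by
  have htwo : (2 : F) = 0 := by
    by_contra h2
    have h3 := eq_one_of_card_two hq h2
    exact one_ne_zero (α := F) (by linear_combination h3)
  haveI : CharP F 2 := CharTwo.of_one_ne_zero_of_two_eq_zero one_ne_zero htwo
  have hf0 : ∀ l, Q (C.dec.proj l (ap g e)) ≠ 0 → C.dec.proj l (ap g e) ≠ 0 := fun l hl h0 => hl (by rw [h0, map_zero])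
  have hone : ∀ {x : F}, x ≠ 0 → x = 1 := fun h => eq_one_of_card_two hq h
  have hff : ∀ (l : Fin t), polar ⇑Q (C.dec.proj l (ap g e)) (ap g e) = 0 := fun l => by
    rw [← C.dec.polar_proj' (C.dec.proj_mem l _), Forms.polar_self_char_two]
  -- a nonsingular vector of `Ys` in the summand `j`
  obtain ⟨p, hp, hpD, hpy⟩ : ∃ p ∈ Ys Q D g i e, p ∈ D j ∧ polar ⇑Q p y ≠ 0 := by
    refine ⟨R Q n (C.dec.proj j (ap g e)) y, C.R_Ys hN hg he he0 heQ hn (C.dec.proj_mem _ _) hnQ
      (by rw [C.dec.polar_proj' hn, hnf]) hnf (hff j) hy, R_mem hn (C.dec.proj_mem _ _) y, ?_⟩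
    rw [R, hone hny, one_smul, mul_one, polar_sub_left, polar_smul_left, hone hny, smul_eq_mul, mul_one,
      sub_add_eq_sub_sub, sub_self, zero_sub, neg_ne_zero]
    exact hfj
  -- the alternatives in a summand `l`
  have key : ∀ l, Q (C.dec.proj l (ap g e)) ≠ 0 →
      (∀ {j' : Fin t} {p' : Vs}, l ≠ j' → p' ∈ Ys Q D g i e → p' ∈ D j' → polar ⇑Q p' y = 0) ∨
      (polar ⇑Q (C.dec.proj l (ap g e)) y = 1 ∧ C.dec.proj l (ap g e) ∈ Ys Q D g i e ∧
        ∀ n ∈ D l, n ≠ 0 → Q n = 0 → polar ⇑Q n (ap g e) = 0 → polar ⇑Q n y = 1) := by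
    intro l hl
    set fl := C.dec.proj l (ap g e) with hfl
    have hflD : fl ∈ D l := C.dec.proj_mem _ _
    by_cases hex : ∃ n ∈ D l, n ≠ 0 ∧ Q n = 0 ∧ polar ⇑Q n (ap g e) = 0 ∧ polar ⇑Q n y = 0
    · left
      intro j' p' hjl hp' hp'D
      by_contra hne
      obtain ⟨n', hn', hn'0, hn'Q, hn'f, hn'y⟩ := hex
      obtain ⟨b, hb, hbv⟩ := C.dec.exists_in C.nondeg (u := ![n', fl]) (i := l)
        (fun o => by fin_cases o <;> assumption) (linearIndependent_pair_of_notMem hn'0 fun hm => by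
          obtain ⟨c, hc⟩ := Submodule.mem_span_singleton.mp hm
          exact hl (by rw [← hc, QuadraticMap.map_smul, hn'Q, smul_zero])) ![0, -1]
      exact C.false_of_cross hN hg he he0 heQ hmulti hjl hp' hp'D hy hn' hn'0 hn'Q hn'f hb (hbv 0)
        (by rw [← C.dec.polar_proj' hb, polar_comm]; exact hbv 1) hn'y hne
    right
    push Not at hex
    have hall : ∀ n ∈ D l, n ≠ 0 → Q n = 0 → polar ⇑Q n (ap g e) = 0 → polar ⇑Q n y = 1 :=
      fun n hn h0 hQn hf => hone (hex n hn h0 hQn hf)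
    have h1 : polar ⇑Q fl y = 1 := by
      refine hone fun h0 => ?_
      obtain ⟨c, hc, hcn⟩ := exists_mem_notMem (S := D l ⊓ LinearMap.ker (QuadraticMap.polarBilin Q fl) ⊓
          LinearMap.ker (QuadraticMap.polarBilin Q y)) (T := F ∙ fl) (by
        have h1 := le_finrank_inf_ker (D l) (QuadraticMap.polarBilin Q fl)
        have h2 := le_finrank_inf_ker (D l ⊓ LinearMap.ker (QuadraticMap.polarBilin Q fl)) (QuadraticMap.polarBilin Q y)
        rw [C.dec.finrank_eq] at h1
        rw [finrank_span_singleton (hf0 l hl)]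
        omega)
      obtain ⟨⟨hcD, hcf⟩, hcy⟩ := hc
      replace hcf : polar ⇑Q fl c = 0 := hcf
      replace hcy : polar ⇑Q y c = 0 := hcy
      have hcf' : polar ⇑Q c (ap g e) = 0 := by rw [← C.dec.polar_proj' hcD, polar_comm, hcf]
      by_cases hQc : Q c = 0
      · exact hex c hcD (fun e => hcn (e ▸ Submodule.zero_mem _)) hQc hcf' (by rw [polar_comm, hcy])
      · refine hex (c + fl) ((D l).add_mem hcD hflD) (fun e => hcn ?_) ?_ ?_ ?_
        · rw [eq_neg_of_add_eq_zero_left e]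
          exact Submodule.neg_mem _ (Submodule.mem_span_singleton_self _)
        · rw [QuadraticMap.map_add (⇑Q), polar_comm, hcf, hone hQc, hone hl, add_zero, CharTwo.add_self_eq_zero]
        · rw [polar_add_left, hcf', hff l, add_zero]
        · rw [polar_add_left, polar_comm, hcy, h0, add_zero]
    refine ⟨h1, ?_, hall⟩
    obtain ⟨n', hn', hn'0, hn'Q⟩ := exists_singular_mem (Q := Q) (K := D l ⊓ LinearMap.ker (QuadraticMap.polarBilin Q fl)) (by
      have h1 := le_finrank_inf_ker (D l) (QuadraticMap.polarBilin Q fl)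
      rw [C.dec.finrank_eq] at h1
      omega)
    have hn'f : polar ⇑Q n' (ap g e) = 0 := by
      rw [← C.dec.polar_proj' hn'.1, polar_comm]; exact hn'.2
    have h2 := C.R_Ys hN hg he he0 heQ hn'.1 hflD hn'Q
      (by rw [polar_comm]; exact hn'.2) hn'f (hff l) hy
    rw [R, hall n' hn'.1 hn'0 hn'Q hn'f, h1, hone hl, mul_one, CharTwo.add_self_eq_zero, zero_smul, sub_zero,
      one_smul] at h2
    exact h2
  obtain ⟨l, hlj, hl⟩ : ∃ l, l ≠ j ∧ Q (C.dec.proj l (ap g e)) ≠ 0 := by
    by_contra hc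
    push Not at hc
    have h1 := C.dec.Q_sum (ap g e) Finset.univ
    rw [C.dec.sum_proj, C.iso g hg, heQ, Finset.sum_eq_single j (fun l _ hl => hc l hl) (by simp)] at h1
    exact hfj h1.symm
  obtain ⟨hly, hlY, -⟩ := (key l hl).resolve_left fun h => hpy (h hlj hp hpD)
  obtain ⟨hjy, hjY, hjall⟩ := (key j hfj).resolve_left fun h =>
    one_ne_zero (α := F) (hly ▸ h hlj.symm hlY (C.dec.proj_mem _ _))
  -- the image of `e` has exactly two components
  obtain ⟨xj, ⟨hxj, hexj⟩, hxj'⟩ := mem_Ys.mp hjY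
  obtain ⟨xl, ⟨hxl, hexl⟩, hxl'⟩ := mem_Ys.mp hlY
  have hQx : Q (xj + xl) = 0 := by
    rw [← C.iso g hg, ap_add, hxj', hxl', QuadraticMap.map_add (⇑Q), C.dec.orth hlj.symm
      (C.dec.proj_mem _ _) (C.dec.proj_mem _ _), hone hfj, hone hl, add_zero, CharTwo.add_self_eq_zero]
  obtain ⟨c, hc⟩ := C.case_four hk hq i e he (xj + xl) ((D i).add_mem hxj hxl) heQ hQx
    (by rw [polar_add_right, hexj, hexl, add_zero]) he0
  have hfeq : C.dec.proj j (ap g e) + C.dec.proj l (ap g e) = c • ap g e := by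
    rw [← hxj', ← hxl', ← ap_add, hc, ap_smul]
  have hcomp : ∀ m, m ≠ j → m ≠ l → C.dec.proj m (ap g e) = 0 := by
    intro m hmj hml
    have h1 := congrArg (C.dec.proj m) hfeq
    rw [map_add, map_smul, C.dec.proj_of_mem_ne hmj (C.dec.proj_mem _ _),
      C.dec.proj_of_mem_ne hml (C.dec.proj_mem _ _), add_zero] at h1
    refine (smul_eq_zero.mp h1.symm).resolve_left fun hc0 => ?_
    rw [hc0, zero_smul] at hfeq
    have h2 := congrArg (C.dec.proj j) hfeq
    rw [map_add, C.dec.proj_of_mem (C.dec.proj_mem _ _), C.dec.proj_of_mem_ne hlj.symm (C.dec.proj_mem _ _),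
      add_zero, map_zero] at h2
    exact hf0 j hfj h2
  -- the components of `y` at `j` and `l` are singular
  have hsing : ∀ m, Q (C.dec.proj m (ap g e)) ≠ 0 → polar ⇑Q (C.dec.proj m (ap g e)) y = 1 →
      (∀ n ∈ D m, n ≠ 0 → Q n = 0 → polar ⇑Q n (ap g e) = 0 → polar ⇑Q n y = 1) → Q (C.dec.proj m y) = 0 := by
    intro m hm hmy hmall
    set fm := C.dec.proj m (ap g e) with hfm
    set d := C.dec.proj m y with hd
    have hfmD : fm ∈ D m := C.dec.proj_mem _ _
    by_contra hQd
    obtain ⟨n1, hn1, hn10, hn1Q⟩ := exists_singular_mem (Q := Q) (K := D m ⊓ LinearMap.ker (QuadraticMap.polarBilin Q fm)) (by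
      have h1 := le_finrank_inf_ker (D m) (QuadraticMap.polarBilin Q fm)
      rw [C.dec.finrank_eq] at h1
      omega)
    have hn1f : polar ⇑Q fm n1 = 0 := hn1.2
    obtain ⟨v, hv, hvv⟩ := C.dec.exists_in C.nondeg (u := ![n1, fm]) (i := m)
      (fun o => by fin_cases o; exacts [hn1.1, hfmD]) (linearIndependent_pair_of_notMem hn10 fun hm' => by
        obtain ⟨c, hc⟩ := Submodule.mem_span_singleton.mp hm'
        exact hm (by rw [← hc, QuadraticMap.map_smul, hn1Q, smul_zero])) ![1, 0]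
    set n2 := v - Q v • n1 with hn2
    have hn12 : polar ⇑Q n1 n2 = 1 := by
      rw [hn2, polar_sub_right, polar_smul_right, Forms.polar_self_char_two, smul_zero, sub_zero]; exact hvv 0
    have hn2f : polar ⇑Q fm n2 = 0 := by
      rw [hn2, polar_sub_right, polar_smul_right, hn1f, smul_zero, sub_zero]; exact hvv 1
    have hn2Q : Q n2 = 0 := by
      rw [hn2, sub_eq_add_neg, QuadraticMap.map_add (⇑Q), QuadraticMap.map_neg, QuadraticMap.map_smul,
        polar_neg_right, polar_smul_right, polar_comm _ v n1, show polar ⇑Q n1 v = 1 from hvv 0, hn1Q]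
      simp
    have hn2D : n2 ∈ D m := (D m).sub_mem hv ((D m).smul_mem _ hn1.1)
    have hn20 : n2 ≠ 0 := fun h => one_ne_zero (α := F) (by rw [← hn12, h, polar_zero_right])
    have hval : ∀ x ∈ D m, x ≠ 0 → Q x = 0 → polar ⇑Q fm x = 0 → polar ⇑Q d x = 1 := fun x hx h0 hxQ hxf => by
      rw [hd, C.dec.polar_proj hx, polar_comm]
      exact hmall x hx h0 hxQ (by rw [← C.dec.polar_proj' hx, polar_comm]; exact hxf)
    have hdf : polar ⇑Q d fm = 1 := by rw [hd, C.dec.polar_proj hfmD, polar_comm]; exact hmy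
    set s := d + fm + n2 with hs
    have hsQ : Q s = 0 := by
      rw [hs, QuadraticMap.map_add (⇑Q), QuadraticMap.map_add (⇑Q), hn2Q, hdf, polar_add_left,
        hval n2 hn2D hn20 hn2Q hn2f, hn2f, hone hQd, hone hm]
      linear_combination (2 : F) * htwo
    have hns : polar ⇑Q n1 s = 0 := by
      rw [hs, polar_add_right, polar_add_right, polar_comm _ n1 d, hval n1 hn1.1 hn10 hn1Q hn1f,
        polar_comm _ n1 fm, hn1f, hn12, add_zero, CharTwo.add_self_eq_zero]
    obtain ⟨c, hc⟩ := C.case_four hk hq m n1 hn1.1 s ((D m).add_mem ((D m).add_mem (C.dec.proj_mem _ _) hfmD) hn2D)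
      hn1Q hsQ hns hn10
    have h1 := congrArg (polar ⇑Q fm) hc
    rw [hs, polar_add_right, polar_add_right, polar_comm _ fm d, hdf, Forms.polar_self_char_two, hn2f,
      polar_smul_right, hn1f, smul_zero, add_zero, add_zero] at h1
    exact one_ne_zero h1
  obtain ⟨-, -, hlall⟩ := (key l hl).resolve_left fun h => hpy (h hlj hp hpD)
  have hQy : Q y = 0 := by
    have h1 := C.dec.Q_sum y Finset.univ
    rw [C.dec.sum_proj] at h1
    rw [h1]
    refine Finset.sum_eq_zero fun m _ => ?_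
    by_cases hmj : m = j
    · exact hmj ▸ hsing j hfj hjy hjall
    by_cases hml : m = l
    · exact hml ▸ hsing l hl hly hlall
    rw [C.proj_eq_zero hN hg he he0 heQ (hcomp m hmj hml) hy, map_zero]
  obtain ⟨z, ⟨hz, hez⟩, rfl⟩ := mem_Ys.mp hy
  rw [C.iso g hg] at hQy
  obtain ⟨c', hc'⟩ := C.case_four hk hq i e he z hz heQ hQy hez he0
  refine hbad ?_
  rw [hc', ap_smul, map_smul]
  exact Submodule.smul_mem _ _ (Submodule.mem_span_singleton_self _)

/-- The special case of summands of dimension three with a singular perpendicular vector. -/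
theorem false_of_bad_three (hk : k = 3) {j : Fin t}
    (hfj : Q (C.dec.proj j (ap g e)) ≠ 0) {y n : Vs} (hy : y ∈ Ys Q D g i e)
    (hn : n ∈ D j) (hnQ : Q n = 0) (hnf : polar ⇑Q n (ap g e) = 0) (hny : polar ⇑Q n y ≠ 0) : False := by
  classical
  obtain ⟨h2, hq⟩ := C.case_three hk
  obtain ⟨s, hs⟩ := exists_ne_three (F := F) (m := 5) {0, 1, -1} (lt_of_le_of_lt Finset.card_le_three (by norm_num)) hq
  simp only [Finset.mem_insert, Finset.mem_singleton, not_or] at hs
  set fj := C.dec.proj j (ap g e) with hfjdef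
  have hfjD : fj ∈ D j := C.dec.proj_mem _ _
  have hnfj : polar ⇑Q n fj = 0 := by rw [C.dec.polar_proj' hn, hnf]
  have hfjf : polar ⇑Q fj (ap g e) = 2 * Q fj := by
    rw [← C.dec.polar_proj' hfjD, polar_self, nsmul_eq_mul, Nat.cast_ofNat]
  obtain ⟨lam, hlam0, hlam⟩ : ∃ c : F, c ≠ 0 ∧ Q y ≠ c * c * Q fj * (polar ⇑Q n y * polar ⇑Q n y) := by
    by_cases h1 : Q y = 1 * 1 * Q fj * (polar ⇑Q n y * polar ⇑Q n y)
    · refine ⟨s, hs.1, fun h => ?_⟩
      have h3 : (s - 1) * (s + 1) * (Q fj * (polar ⇑Q n y * polar ⇑Q n y)) = 0 := by linear_combination h1 - h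
      rcases mul_eq_zero.mp h3 with h4 | h4
      · rcases mul_eq_zero.mp h4 with h5 | h5
        · exact hs.2.1 (sub_eq_zero.mp h5)
        · exact hs.2.2 (eq_neg_of_add_eq_zero_left h5)
      · exact mul_ne_zero hfj (mul_ne_zero hny hny) h4
    · exact ⟨1, one_ne_zero, h1⟩
  obtain ⟨z, ⟨hz, hez⟩, rfl⟩ := mem_Ys.mp hy
  set y := ap g z with hydef
  set f := ap g e with hfdef
  obtain ⟨b, hb⟩ : ∃ b, b = lam • fj := ⟨_, rfl⟩
  have hbD : b ∈ D j := hb ▸ (D j).smul_mem _ hfjD
  have hnb : polar ⇑Q n b = 0 := by rw [hb, polar_smul_right, hnfj, smul_zero]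
  set h := eichlerGL Q n b hnQ hnb with hh
  have hhM : h ∈ M := C.root j n hn b hbD hnQ hnb
  set β := polar ⇑Q b f with hβ
  have hβ0 : β ≠ 0 := by
    rw [hβ, hb, polar_smul_left, hfjf]; exact mul_ne_zero hlam0 (mul_ne_zero h2 hfj)
  set ν := polar ⇑Q n y with hν
  set c := (ν * β)⁻¹ with hc
  have hcv : c * (ν * β) = 1 := inv_mul_cancel₀ (mul_ne_zero hny hβ0)
  have hhf : ap h f = f - β • n := by
    rw [hh, ap_E, R, hnf, zero_smul, mul_zero, add_zero, zero_sub, sub_eq_add_neg]
  have hfy : polar ⇑Q f y = 0 := C.polar_Ys hg hy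
  have hff : polar ⇑Q f f = 0 := by rw [hfdef, polar_self, C.iso g hg, heQ, nsmul_zero]
  set a' := ap h y with ha'
  have ha'eq : a' = y + (ν • b - (polar ⇑Q b y + Q b * ν) • n) := by rw [ha', hh, ap_E, R]
  have hEy : polar ⇑Q e (c • z) = 0 := by rw [polar_smul_right, hez, smul_zero]
  set m := h * (g * eichlerGL Q e (c • z) heQ hEy * g⁻¹) * h⁻¹ with hm
  have hmM : m ∈ M := M.mul_mem (M.mul_mem hhM (M.mul_mem (M.mul_mem hg
    (C.root i e he _ ((D i).smul_mem _ hz) heQ hEy)) (M.inv_mem hg))) (M.inv_mem hhM)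
  have hmv : ∀ x, ap m x = x + R Q (ap h f) (c • a') x := by
    intro x
    rw [hm, SingMax.conj_E (C.iso g hg), SingMax.conj_E (C.iso h hhM), ap_E, ha', hydef, hfdef, ← ap_smul, ← ap_smul]
  have h1 : polar ⇑Q (ap h f) f = 0 := by rw [hhf, polar_sub_left, polar_smul_left, hnf, hff]; simp
  have h3 : polar ⇑Q a' f = ν * β := by
    rw [ha'eq, polar_add_left, polar_sub_left, polar_smul_left, polar_smul_left, hnf, polar_comm _ y f, hfy, ← hβ]
    simp
  have hmf : ap m f = β • n := by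
    rw [hmv, R, h1, zero_smul, polar_smul_left, h3, smul_eq_mul, hcv, mul_zero, add_zero, one_smul, zero_sub, hhf]
    abel
  have hmy : ap m y ∈ D j := by
    have := C.single hN (M.mul_mem hmM hg) he he0 heQ (j := j)
      (by rw [ap_mul, ← hfdef, hmf]; exact (D j).smul_mem _ hn) hz hez
    rwa [ap_mul] at this
  obtain ⟨l, hlj, hl⟩ := C.exists_other hN hg he he0 heQ hmulti j
  have h4 : polar ⇑Q (ap h f) y = -(β * ν) := by
    rw [hhf, polar_sub_left, polar_smul_left, hfy]; simp [hν]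
  have h5 : polar ⇑Q a' y = 2 * Q y + ν * polar ⇑Q b y - (polar ⇑Q b y + Q b * ν) * ν := by
    rw [ha'eq, polar_add_left, polar_sub_left, polar_smul_left, polar_smul_left, polar_self, ← hν]
    simp only [smul_eq_mul, nsmul_eq_mul, Nat.cast_ofNat]; ring
  have h6 := C.dec.proj_of_mem_ne hlj hmy
  have h9 : C.dec.proj l a' = C.dec.proj l y := by
    rw [ha'eq]
    simp [map_add, map_sub, map_smul, C.dec.proj_of_mem_ne hlj hn, C.dec.proj_of_mem_ne hlj hbD]
  have h10 : C.dec.proj l (ap h f) = C.dec.proj l f := by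
    rw [hhf]
    simp [map_sub, map_smul, C.dec.proj_of_mem_ne hlj hn]
  have hQa' : Q a' = Q y := C.iso h hhM y
  rw [hmv, R] at h6
  simp only [map_add, map_sub, map_smul, h4, h9, h10, polar_smul_left, QuadraticMap.map_smul, h5, hQa',
    smul_smul, smul_eq_mul] at h6
  have h7 : (c * (Q y - Q b * ν * ν)) • C.dec.proj l f = 0 := by
    have e1 : -(β * ν) * c = -1 := by linear_combination -hcv
    rw [e1] at h6
    rw [show c * (2 * Q y + ν * polar ⇑Q b y - (polar ⇑Q b y + Q b * ν) * ν) + c * c * Q y * -(β * ν) =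
      c * (Q y - Q b * ν * ν) by linear_combination (-c * Q y) * hcv] at h6
    linear_combination (norm := module) -h6
  refine hlam ?_
  have h8 := (mul_eq_zero.mp ((smul_eq_zero.mp h7).resolve_right hl)).resolve_left
    (inv_ne_zero (mul_ne_zero hny hβ0))
  rw [hb, QuadraticMap.map_smul, smul_eq_mul] at h8
  linear_combination h8

/-- The special case of summands of dimension three without singular perpendicular vectors. -/
theorem false_of_bad_rotation (hk : k = 3) {j : Fin t}
    (hfj : Q (C.dec.proj j (ap g e)) ≠ 0) {y : Vs} (hy : y ∈ Ys Q D g i e)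
    (hbad : C.dec.proj j y ∉ (F ∙ C.dec.proj j (ap g e)))
    (hP : ∀ x ∈ D j, polar ⇑Q x (ap g e) = 0 → Q x = 0 → x = 0) : False := by
  classical
  obtain ⟨h2, hq⟩ := C.case_three hk
  set f := ap g e with hf
  set fj := C.dec.proj j f with hfjdef
  have hfjD : fj ∈ D j := C.dec.proj_mem _ _
  have hnd : ∀ x ∈ D j, polar ⇑Q x f = polar ⇑Q x fj := fun x hx => (C.dec.polar_proj' hx f).symm
  have hself : ∀ x : Vs, polar ⇑Q x x = 2 * Q x := fun x => by rw [polar_self, nsmul_eq_mul, Nat.cast_ofNat]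
  set a := C.dec.proj j y - (polar ⇑Q fj y / (2 * Q fj)) • fj with ha
  have haD : a ∈ D j := (D j).sub_mem (C.dec.proj_mem _ _) ((D j).smul_mem _ hfjD)
  have haf : polar ⇑Q a f = 0 := by
    rw [hnd a haD, ha, polar_sub_left, polar_smul_left, hself, C.dec.polar_proj hfjD, polar_comm _ y fj, smul_eq_mul,
      div_mul_cancel₀ _ (mul_ne_zero h2 hfj), sub_self]
  have ha0 : a ≠ 0 := fun h => hbad (by
    rw [ha, sub_eq_zero] at h
    rw [h]; exact Submodule.smul_mem _ _ (Submodule.mem_span_singleton_self _))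
  have hQa : Q a ≠ 0 := fun h => ha0 (hP a haD haf h)
  obtain ⟨d, hd, hdn⟩ := exists_mem_notMem (S := D j ⊓ LinearMap.ker (QuadraticMap.polarBilin Q fj) ⊓
      LinearMap.ker (QuadraticMap.polarBilin Q a)) (T := ⊥) (by
    have h1 := le_finrank_inf_ker (D j) (QuadraticMap.polarBilin Q fj)
    have h3 := le_finrank_inf_ker (D j ⊓ LinearMap.ker (QuadraticMap.polarBilin Q fj)) (QuadraticMap.polarBilin Q a)
    rw [C.dec.finrank_eq] at h1
    rw [finrank_bot]; omega)
  obtain ⟨⟨hdD, hdf⟩, had⟩ := hd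
  replace hdf : polar ⇑Q fj d = 0 := hdf
  replace had : polar ⇑Q a d = 0 := had
  have hd0 : d ≠ 0 := by simpa using hdn
  have hdf' : polar ⇑Q d f = 0 := by rw [hnd d hdD, polar_comm, hdf]
  have hQd : Q d ≠ 0 := fun h => hd0 (hP d hdD hdf' h)
  obtain ⟨s0, hs0⟩ := exists_ne_three (F := F) (m := 5) {0, 1, -1} (lt_of_le_of_lt Finset.card_le_three (by norm_num)) hq
  simp only [Finset.mem_insert, Finset.mem_singleton, not_or] at hs0
  obtain ⟨x, hx0, hx⟩ : ∃ x : F, x ≠ 0 ∧ Q a ≠ x * x * Q d := by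
    by_cases h1 : Q a = 1 * 1 * Q d
    · refine ⟨s0, hs0.1, fun h => ?_⟩
      have h3 : (s0 - 1) * (s0 + 1) * Q d = 0 := by linear_combination h1 - h
      rcases mul_eq_zero.mp h3 with h4 | h4
      · rcases mul_eq_zero.mp h4 with h5 | h5
        · exact hs0.2.1 (sub_eq_zero.mp h5)
        · exact hs0.2.2 (eq_neg_of_add_eq_zero_left h5)
      · exact hQd h4
    · exact ⟨1, one_ne_zero, h1⟩
  set s := a + x • d with hs
  have hsD : s ∈ D j := (D j).add_mem haD ((D j).smul_mem _ hdD)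
  have hsf : polar ⇑Q s f = 0 := by rw [hs, polar_add_left, polar_smul_left, haf, hdf', smul_zero, add_zero]
  have hσ : polar ⇑Q a s = 2 * Q a := by rw [hs, polar_add_right, polar_smul_right, had, hself, smul_zero, add_zero]
  have hQs' : Q s = Q a + x * x * Q d := by
    rw [hs, QuadraticMap.map_add (⇑Q), QuadraticMap.map_smul, polar_smul_right, had, smul_zero, add_zero, smul_eq_mul]
  have hs0' : s ≠ 0 := fun h => mul_ne_zero h2 hQa (by rw [← hσ, h, polar_zero_right])
  have hQs : Q s ≠ 0 := fun h => hs0' (hP s hsD hsf h)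
  have hind : ∀ u v : F, u • a + v • s = 0 → u = 0 ∧ v = 0 := by
    intro u v huv
    have h1 := congrArg (fun w => polar ⇑Q w d) huv
    simp only [hs, polar_add_left, polar_smul_left, polar_zero_left, had, hself d, smul_eq_mul] at h1
    have hv : v = 0 := by
      have h1' : v * (x * (2 * Q d)) = 0 := by linear_combination h1
      exact (mul_eq_zero.mp h1').resolve_right (mul_ne_zero hx0 (mul_ne_zero h2 hQd))
    refine ⟨?_, hv⟩
    rw [hv, zero_smul, add_zero] at huv
    exact (smul_eq_zero.mp huv).resolve_right ha0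
  obtain ⟨h, hhM, hh⟩ := C.comm j a haD s hsD hQa hQs
  let r := fun (v w : Vs) => Orth.reflFun Q v w
  have hfix : ∀ w, polar ⇑Q a w = 0 → polar ⇑Q s w = 0 → ap h w = w := by
    intro w h1 h3
    simp [hh, Orth.reflFun, h1, h3]
  have hhf : ap h f = f := hfix f haf hsf
  have hdet : ∀ p : Vs, polar ⇑Q p f = 0 → p ∈ D j → polar ⇑Q a p = 0 → polar ⇑Q s p = 0 → p = 0 := by
    intro p hpf hpD hap hsp
    refine hP p hpD hpf ?_
    have hli : LinearIndependent F ![a, s, fj] := by
      refine linearIndependent_triple ha0 (fun hm => ?_) (fun hm => ?_)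
      · obtain ⟨c, hc⟩ := Submodule.mem_span_singleton.mp hm
        exact one_ne_zero (α := F) (neg_eq_zero.mp (hind c (-1) (by rw [hc, neg_one_smul, add_neg_cancel])).2)
      · obtain ⟨u, v, huv⟩ := Submodule.mem_span_pair.mp hm
        refine mul_ne_zero h2 hfj ?_
        have h1 : polar ⇑Q fj fj = 0 := by
          conv_lhs => rw [← huv]
          rw [polar_add_left, polar_smul_left, polar_smul_left, huv, ← hnd a haD, haf, ← hnd s hsD, hsf]
          simp
        rwa [hself] at h1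
    have hspan : Submodule.span F (Set.range ![a, s, fj]) = D j := by
      refine Submodule.eq_of_le_of_finrank_le (Submodule.span_le.mpr ?_) ?_
      · rintro _ ⟨l, rfl⟩; fin_cases l <;> assumption
      · rw [finrank_span_eq_card hli, C.dec.finrank_eq, Fintype.card_fin]; omega
    have hle : D j ≤ LinearMap.ker (QuadraticMap.polarBilin Q p) := by
      rw [← hspan, Submodule.span_le]
      rintro _ ⟨l, rfl⟩
      show polar ⇑Q p _ = 0
      fin_cases l
      · exact (polar_comm _ _ _).trans hap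
      · exact (polar_comm _ _ _).trans hsp
      · exact (hnd p hpD).symm.trans hpf
    have h1 : polar ⇑Q p p = 0 := hle hpD
    rw [hself] at h1
    exact (mul_eq_zero.mp h1).resolve_left h2
  have heig : ∀ p : Vs, p ∈ D j → polar ⇑Q p f = 0 → p ≠ 0 → ∀ κ : F, ap h p ≠ κ • p := by
    intro p hpD hpf hp0 κ hκ
    have hQp : Q p ≠ 0 := fun h => hp0 (hP p hpD hpf h)
    have h1 : κ * κ = 1 := by
      have := C.iso h hhM p
      rw [hκ, QuadraticMap.map_smul, smul_eq_mul] at this
      exact mul_right_cancel₀ hQp (by rw [this, one_mul])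
    have hrs : r a (r s p) = κ • r s (r a p) := by
      have h3 := congrArg (fun w => r a (r s (r a (r s w)))) (rfl : p = p)
      have h4 : r a (r s (r a (r s p))) = κ • p := by rw [← hκ, hh]
      have h5 := congrArg (fun w => r s (r a w)) h4
      simp only [r, Orth.reflFun_reflFun hQa, Orth.reflFun_reflFun hQs] at h5
      simp only [r]
      rw [h5]
      simp only [Orth.reflFun, polar_smul_right, smul_sub, smul_smul, polar_sub_right, smul_eq_mul]
      module
    simp only [r, Orth.reflFun, polar_sub_right, polar_smul_right, smul_eq_mul, polar_comm (⇑Q) s a, hσ] at hrs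
    rcases mul_self_eq_one_iff.mp h1 with rfl | rfl
    · obtain ⟨hu, hv⟩ := hind ((Q a)⁻¹ * ((Q s)⁻¹ * polar ⇑Q s p * (2 * Q a)))
        (-((Q s)⁻¹ * ((Q a)⁻¹ * polar ⇑Q a p * (2 * Q a)))) (by linear_combination (norm := module) hrs)
      simp [h2, hQa, hQs] at hu hv
      exact hp0 (hdet p hpf hpD hv hu)
    · have e1 := congrArg (polar ⇑Q a) hrs
      have e2 := congrArg (polar ⇑Q s) hrs
      simp only [polar_sub_right, polar_smul_right, smul_eq_mul, polar_comm (⇑Q) s a, hσ, hself] at e1 e2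
      field_simp at e1 e2
      have hT : 2 * Q a - Q s ≠ 0 := by
        rw [hQs']; intro h; exact hx (by linear_combination h)
      have hu : (2 * Q a - Q s) * polar ⇑Q a p = 0 := by
        refine (mul_eq_zero.mp (?_ : (2 * (2 : F)) * ((2 * Q a - Q s) * polar ⇑Q a p) = 0)).resolve_left
          (mul_ne_zero h2 h2)
        linear_combination 2 * e1
      have hap := (mul_eq_zero.mp hu).resolve_left hT
      have hv : (2 * Q a - Q s) * polar ⇑Q s p = 0 := by
        refine (mul_eq_zero.mp (?_ : (2 * (2 : F)) * ((2 * Q a - Q s) * polar ⇑Q s p) = 0)).resolve_left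
          (mul_ne_zero h2 h2)
        linear_combination 2 * e2
      exact hp0 (hdet p hpf hpD hap ((mul_eq_zero.mp hv).resolve_left hT))
  have hstable : ∀ w, w ∈ D j → polar ⇑Q w f = 0 → ap h w - w ∈ D j ∧ polar ⇑Q (ap h w - w) f = 0 := by
    intro w hw hwf
    refine ⟨(D j).sub_mem ?_ hw, ?_⟩
    · rw [hh]
      have hrD : ∀ v ∈ D j, ∀ u ∈ D j, Orth.reflFun Q v u ∈ D j := fun v hv u hu =>
        (D j).sub_mem hu ((D j).smul_mem _ hv)
      exact hrD a haD _ (hrD s hsD _ (hrD a haD _ (hrD s hsD _ hw)))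
    · have h1 : polar ⇑Q (ap h w) f = polar ⇑Q w f := by
        conv_lhs => rw [← hhf]
        exact C.polar_ap hhM w f
      rw [polar_sub_left, h1, sub_self]
  have hYmap : ∀ w ∈ Ys Q D g i e, ap h w - w ∈ Ys Q D g i e := fun w hw =>
    Submodule.sub_mem _ (C.map_Ys hN hg he he0 heQ hhM hhf hw) hw
  have hrest : ap h (y - a) = y - a := by
    refine hfix _ ?_ ?_
    · rw [polar_sub_right, ← C.dec.polar_proj' haD, ha, polar_sub_right, polar_smul_right,
        ← hnd _ haD, haf]
      simp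
    · rw [polar_sub_right, ← C.dec.polar_proj' hsD, ha, polar_sub_right, polar_smul_right,
        ← hnd _ hsD, hsf]
      simp
  have hpa : ap h y - y = ap h a - a := by
    rw [ap_sub] at hrest
    linear_combination (norm := module) hrest
  set p := ap h a - a with hp
  obtain ⟨hpD, hpf⟩ := hstable a haD haf
  have hp0 : p ≠ 0 := fun h0 => heig a haD haf ha0 1 (by rw [one_smul]; exact sub_eq_zero.mp h0)
  have hpY : p ∈ Ys Q D g i e := hpa ▸ hYmap y hy
  have hli : LinearIndependent F ![p, ap h p - p] := by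
    refine (LinearIndependent.pair_iff' hp0).mpr fun c hc => heig p hpD hpf hp0 (c + 1) ?_
    rw [add_smul, one_smul, hc, sub_add_cancel]
  have heq : Submodule.span F (Set.range ![p, ap h p - p]) = Ys Q D g i e := by
    refine Submodule.eq_of_le_of_finrank_le (Submodule.span_le.mpr ?_) ?_
    · rintro _ ⟨l, rfl⟩; fin_cases l
      · exact hpY
      · exact hYmap p hpY
    · rw [finrank_span_eq_card hli, Fintype.card_fin]
      have := C.finrank_Ys g he he0; omega
  refine hmulti j ((?_ : Ys Q D g i e ≤ D j) (C.self_mem_Ys he heQ))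
  rw [← heq, Submodule.span_le]
  rintro _ ⟨l, rfl⟩; fin_cases l
  · exact hpD
  · exact (hstable p hpD hpf).1

/-- All components lie on the lines of the components of the image of `e`. -/
theorem proj_mem_line (j : Fin t) {y : Vs} (hy : y ∈ Ys Q D g i e) :
    C.dec.proj j y ∈ (F ∙ C.dec.proj j (ap g e)) := by
  set f := ap g e with hf
  set fj := C.dec.proj j f with hfjdef
  by_cases hfj0 : fj = 0
  · rw [C.proj_eq_zero hN hg he he0 heQ hfj0 hy]; exact Submodule.zero_mem _
  by_contra hbad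
  have hfjD : fj ∈ D j := C.dec.proj_mem _ _
  have hnd : ∀ x ∈ D j, polar ⇑Q x f = polar ⇑Q x fj := fun x hx => (C.dec.polar_proj' hx f).symm
  have hkill : ∀ n ∈ D j, n ≠ 0 → Q n = 0 → polar ⇑Q n fj = 0 →
      (∀ b ∈ D j, polar ⇑Q n b = 0 → polar ⇑Q b fj = 0 → R Q n b y ∈ Ys Q D g i e) ∧
      n ∉ Ys Q D g i e := fun n hn hn0 hnQ hnf =>
    ⟨fun b hb hnb hbf => C.R_Ys hN hg he he0 heQ hn hb hnQ hnb (hnd n hn ▸ hnf) (hnd b hb ▸ hbf) hy,
      fun hm => hn0 (C.no_singular hN hg he he0 heQ hmulti hm hn hnQ)⟩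
  have hcentre : ∀ n ∈ D j, n ≠ 0 → Q n = 0 → polar ⇑Q n fj = 0 → polar ⇑Q n y ≠ 0 →
      ∀ b ∈ D j, polar ⇑Q n b = 0 → polar ⇑Q b fj = 0 →
      (∃ b' ∈ D j, polar ⇑Q n b' = 0 ∧ polar ⇑Q b' fj = 0 ∧ polar ⇑Q b b' = 1) → False := by
    rintro n hn hn0 hnQ hnf hny b hb hnb hbf ⟨b', hb', hnb', hb'f, hbb'⟩
    obtain ⟨hR, hnY⟩ := hkill n hn hn0 hnQ hnf
    have hbb : b' ∈ D j := hb'
    have h1 := Submodule.sub_mem _ (Submodule.sub_mem _
      (hR (b + b') ((D j).add_mem hb hbb) (by rw [polar_add_right, hnb, hnb', add_zero])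
        (by rw [polar_add_left, hbf, hb'f, add_zero])) (hR b hb hnb hbf)) (hR b' hbb hnb' hb'f)
    rw [R_add, hbb', one_mul] at h1
    exact hnY ((Submodule.smul_mem_iff _ (neg_ne_zero.mpr hny)).mp h1)
  by_cases hQfj : Q fj = 0
  · have hself : polar ⇑Q fj fj = 0 := by rw [polar_self, hQfj, nsmul_zero]
    obtain ⟨hR, hnY⟩ := hkill fj hfjD hfj0 hQfj hself
    by_cases hfy : polar ⇑Q fj y = 0
    · obtain ⟨b, hb, hbv⟩ := C.dec.exists_in C.nondeg (u := ![fj, C.dec.proj j y]) (i := j)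
        (fun o => by fin_cases o; exacts [hfjD, C.dec.proj_mem _ _])
        (linearIndependent_pair_of_notMem hfj0 hbad) ![0, 1]
      have hbv0 : polar ⇑Q fj b = 0 := hbv 0
      have hbv1 : polar ⇑Q b y = 1 := by
        rw [← C.dec.polar_proj' hb, polar_comm]; exact hbv 1
      have h1 := hR b hb hbv0 (by rw [polar_comm]; exact hbv0)
      rw [R, hfy, zero_smul, mul_zero, add_zero, hbv1, one_smul, zero_sub] at h1
      exact hnY (neg_mem_iff.mp h1)
    obtain ⟨d, hd, hdQ, hfd⟩ := C.dec.exists_partner C.nondeg hfjD hfj0 hQfj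
    obtain ⟨b, hb, hbn, -, hfb, -⟩ := C.dec.exists_perp_pair C.three hfjD hd hQfj hdQ hfd
    obtain ⟨b', hb', hbb⟩ := C.dec.exists_in C.nondeg (u := ![fj, b]) (i := j)
      (fun o => by fin_cases o <;> assumption) (linearIndependent_pair_of_notMem hfj0 hbn) ![0, 1]
    exact hcentre fj hfjD hfj0 hQfj hself hfy b hb hfb (by rw [polar_comm]; exact hfb)
      ⟨b', hb', hbb 0, by rw [polar_comm]; exact hbb 0, hbb 1⟩
  by_cases hex : ∃ n ∈ D j, n ≠ 0 ∧ Q n = 0 ∧ polar ⇑Q n fj = 0
  swap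
  · push Not at hex
    have hk3 : k = 3 := by
      by_contra hk
      obtain ⟨n, hn, hn0, hnQ⟩ := exists_singular_mem (Q := Q) (K := D j ⊓ LinearMap.ker (QuadraticMap.polarBilin Q fj)) (by
        have h1 := le_finrank_inf_ker (D j) (QuadraticMap.polarBilin Q fj)
        have := C.three
        rw [C.dec.finrank_eq] at h1
        omega)
      exact hex n hn.1 hn0 hnQ (by rw [polar_comm]; exact hn.2)
    exact C.false_of_bad_rotation hN hg he he0 heQ hmulti hk3 hQfj hy hbad fun x hx hxf hxQ => by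
      by_contra hx0
      exact hex x hx hx0 hxQ (hnd x hx ▸ hxf)
  obtain ⟨n0, hn0D, hn00, hn0Q, hn0f⟩ := hex
  have hnfj : fj ∉ (F ∙ n0) := fun hm => by
    obtain ⟨c, hc⟩ := Submodule.mem_span_singleton.mp hm
    exact hQfj (by rw [← hc, QuadraticMap.map_smul, hn0Q, smul_zero])
  obtain ⟨n, hn, hn0, hnQ, hnf, hny⟩ :
      ∃ n ∈ D j, n ≠ 0 ∧ Q n = 0 ∧ polar ⇑Q n fj = 0 ∧ polar ⇑Q n y ≠ 0 := by
    by_cases h0 : polar ⇑Q n0 y = 0
    swap
    · exact ⟨n0, hn0D, hn00, hn0Q, hn0f, h0⟩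
    obtain ⟨hR, hnY⟩ := hkill n0 hn0D hn00 hn0Q hn0f
    by_cases hspan : C.dec.proj j y ∈ Submodule.span F {n0, fj}
    · obtain ⟨α, β, hαβ⟩ := Submodule.mem_span_pair.mp hspan
      obtain ⟨v, hv, hvv⟩ := C.dec.exists_in C.nondeg (u := ![n0, fj]) (i := j)
        (fun o => by fin_cases o <;> assumption) (linearIndependent_pair_of_notMem hn00 hnfj) ![1, 0]
      have hnv : polar ⇑Q n0 v = 1 := hvv 0
      have hfv : polar ⇑Q fj v = 0 := hvv 1
      have hval : polar ⇑Q (v - Q v • n0) n0 = 1 := by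
        rw [polar_sub_left, polar_smul_left, polar_self, hn0Q, polar_comm, hnv]; simp
      refine ⟨v - Q v • n0, (D j).sub_mem hv ((D j).smul_mem _ hn0D),
        fun h => one_ne_zero (α := F) (by rw [← hval, h, polar_zero_left]), ?_, ?_, ?_⟩
      · rw [sub_eq_add_neg, QuadraticMap.map_add (⇑Q), QuadraticMap.map_neg, QuadraticMap.map_smul,
          polar_neg_right, polar_smul_right, polar_comm _ v n0, hnv, hn0Q]
        simp
      · rw [polar_sub_left, polar_smul_left, polar_comm _ v fj, hfv, hn0f]; simp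
      · rw [← C.dec.polar_proj' ((D j).sub_mem hv ((D j).smul_mem _ hn0D)), ← hαβ, polar_add_right,
          polar_smul_right, polar_smul_right, hval, polar_sub_left, polar_smul_left, polar_comm _ v fj, hfv, hn0f]
        simp only [smul_zero, sub_zero, add_zero, smul_eq_mul, mul_one, mul_zero]
        intro hα
        refine hbad ?_
        rw [← hαβ, hα, zero_smul, zero_add]
        exact Submodule.smul_mem _ _ (Submodule.mem_span_singleton_self _)
    · obtain ⟨b, hb, hbv⟩ := C.dec.exists_in C.nondeg (u := ![n0, fj, C.dec.proj j y]) (i := j)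
        (fun o => by fin_cases o; exacts [hn0D, hfjD, C.dec.proj_mem _ _])
        (linearIndependent_triple hn00 hnfj hspan) ![0, 0, 1]
      have h1 := hR b hb (hbv 0) (by rw [polar_comm]; exact hbv 1)
      have hbv2 : polar ⇑Q b y = 1 := by rw [← C.dec.polar_proj' hb, polar_comm]; exact hbv 2
      rw [R, h0, zero_smul, mul_zero, add_zero, hbv2, one_smul, zero_sub] at h1
      exact absurd (neg_mem_iff.mp h1) hnY
  have hfn : fj ∉ (F ∙ n) := fun hm => by
    obtain ⟨c, hc⟩ := Submodule.mem_span_singleton.mp hm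
    exact hQfj (by rw [← hc, QuadraticMap.map_smul, hnQ, smul_zero])
  by_cases hexb : ∃ b ∈ D j, polar ⇑Q n b = 0 ∧ polar ⇑Q b fj = 0 ∧ b ∉ Submodule.span F {n, fj}
  · obtain ⟨b, hb, hnb, hbf, hbn⟩ := hexb
    obtain ⟨b', hb', hbb⟩ := C.dec.exists_in C.nondeg (u := ![n, fj, b]) (i := j)
      (fun o => by fin_cases o <;> assumption) (linearIndependent_triple hn0 hfn hbn) ![0, 0, 1]
    exact hcentre n hn hn0 hnQ hnf hny b hb hnb hbf ⟨b', hb', hbb 0, by rw [polar_comm]; exact hbb 1, hbb 2⟩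
  push Not at hexb
  set S := D j ⊓ LinearMap.ker (QuadraticMap.polarBilin Q fj) ⊓ LinearMap.ker (QuadraticMap.polarBilin Q n) with hS
  have hSdim : k ≤ Module.finrank F S + 2 := by
    have h1 := le_finrank_inf_ker (D j) (QuadraticMap.polarBilin Q fj)
    have h2 := le_finrank_inf_ker (D j ⊓ LinearMap.ker (QuadraticMap.polarBilin Q fj)) (QuadraticMap.polarBilin Q n)
    rw [C.dec.finrank_eq] at h1
    rw [hS]; omega
  have hSle : S ≤ Submodule.span F {n, fj} := fun b hb =>
    hexb b hb.1.1 hb.2 (by rw [polar_comm]; exact hb.1.2)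
  by_cases h2 : (2 : F) = 0
  swap
  · have hS1 : S ≤ F ∙ n := fun b hb => by
      obtain ⟨α, β, hαβ⟩ := Submodule.mem_span_pair.mp (hSle hb)
      have h1 : polar ⇑Q fj b = 0 := hb.1.2
      rw [← hαβ, polar_add_right, polar_smul_right, polar_smul_right, polar_comm _ fj n, hnf, smul_zero, zero_add,
        polar_self, nsmul_eq_mul, Nat.cast_ofNat, smul_eq_mul, mul_eq_zero] at h1
      rw [← hαβ, h1.resolve_right (mul_ne_zero h2 hQfj), zero_smul, add_zero]
      exact Submodule.smul_mem _ _ (Submodule.mem_span_singleton_self _)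
    have h3 := Submodule.finrank_mono hS1
    rw [finrank_span_singleton hn0] at h3
    have := C.three
    exact C.false_of_bad_three hN hg he he0 heQ hmulti (by omega) hQfj hy hn hnQ (hnd n hn ▸ hnf) hny
  haveI : CharP F 2 := CharTwo.of_one_ne_zero_of_two_eq_zero one_ne_zero h2
  obtain ⟨hR, hnY⟩ := hkill n hn hn0 hnQ hnf
  have hk4 : k = 4 := by
    have h3 := (Submodule.finrank_mono hSle).trans (finrank_span_pair_le n fj)
    have := C.three
    rcases Nat.eq_or_lt_of_le C.three with h | h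
    · exact absurd h2 (C.case_three h.symm).1
    · omega
  by_cases hq : Nat.card F = 2
  · exact C.false_of_bad_two hN hg he he0 heQ hmulti hk4 hq hQfj hy hbad hn hnQ (hnd n hn ▸ hnf) hny
  classical
  obtain ⟨s, hs⟩ := exists_ne_three (F := F) (m := 3) {0, 1} (lt_of_le_of_lt Finset.card_le_two (by norm_num))
    (by have : 1 < Nat.card F := Finite.one_lt_card; omega)
  simp only [Finset.mem_insert, Finset.mem_singleton, not_or] at hs
  have hff : polar ⇑Q fj fj = 0 := Forms.polar_self_char_two _ _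
  have h1 := Submodule.sub_mem _
    (hR (s • fj) ((D j).smul_mem _ hfjD) (by rw [polar_smul_right, hnf, smul_zero]) (by rw [polar_smul_left, hff, smul_zero]))
    (Submodule.smul_mem _ s (hR fj hfjD hnf hff))
  have h3 : R Q n (s • fj) y - s • R Q n fj y = -((s * s - s) * (Q fj * polar ⇑Q n y)) • n := by
    simp only [R, QuadraticMap.map_smul, polar_smul_left, smul_eq_mul]
    module
  rw [h3] at h1
  refine hnY ((Submodule.smul_mem_iff _ (neg_ne_zero.mpr (mul_ne_zero ?_ (mul_ne_zero hQfj hny)))).mp h1)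
  intro h
  rcases mul_eq_zero.mp (show s * (s - 1) = 0 by linear_combination h) with h4 | h4
  · exact hs.1 h4
  · exact hs.2 (sub_eq_zero.mp h4)

end Conf

end Cfsg.Agent.Lib.OrthMax
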