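import Cfsg.Agent.Lib.OrthMax.Spread

/-!
The stabiliser of an orthogonal decomposition into summands of dimension at least three is maximal in `Ω`.
-/

set_option autoImplicit false
set_option linter.unusedSectionVars false

namespace Cfsg.Agent.Lib.OrthMax

open Matrix QuadraticMap
open Cfsg.Agent.Lib.FormMax.OrthSL (eichlerGL eichlerGL_mulVec Q_eichlerGL)

variable {ι : Type} [Fintype ι] [DecidableEq ι] {F : Type*} [Field F]
  {Q : QuadraticForm F (ι → F)} {t k : ℕ} {D : Fin t → Submodule F (ι → F)}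

local notation "Vs" => (ι → F)

/-- In characteristic two every isometry is in `Ω` up to any given reflection. -/
theorem mem_omega_or_two [Finite F] [CharP F 2] (hQ : (QuadraticMap.polarBilin Q).Nondegenerate)
    (hn : 7 ≤ Fintype.card ι) {v : Vs} (hv : Q v ≠ 0) (g : ↥(Cfsg.isometryGroup F ⇑Q)) :
    g ∈ Cfsg.Omega F ⇑Q ∨ Orth.refl Q v hv * g ∈ Cfsg.Omega F ⇑Q := by
  let q : ↥(Cfsg.isometryGroup F ⇑Q) →* Abelianization ↥(Cfsg.isometryGroup F ⇑Q) := Abelianization.of
  set r := q (Orth.refl Q v hv) with hr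
  have hker : ∀ x, q x = 1 → x ∈ Cfsg.Omega F ⇑Q := fun x hx => (QuotientGroup.eq_one_iff x).1 hx
  have hrefl : ∀ (w : Vs) (hw : Q w ≠ 0), q (Forms.reflElem hw) = r := by
    intro w hw
    obtain ⟨s, hs⟩ := surjective_frobenius F 2 (Q v / Q w)
    rw [frobenius_def, pow_two] at hs
    have hs0 : s ≠ 0 := fun h => div_ne_zero hv hw (by rw [← hs, h, mul_zero])
    have hsw : Q (s • w) = Q v := by rw [QuadraticMap.map_smul, smul_eq_mul, hs, div_mul_cancel₀ _ hw]
    obtain ⟨e, a, he, ha, hmove⟩ := SingMax.exists_transitive_two hQ hn hv hsw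
    have h1 : SingMax.eIso Q e a he ha * Orth.refl Q v hv * (SingMax.eIso Q e a he ha)⁻¹ = Forms.reflElem hw := by
      rw [Orth.conj_refl]
      refine Orth.isometry_ext fun x => ?_
      rw [Orth.app_refl]
      show _ = ((Forms.reflElem hw : GL ι F) : Matrix ι ι F) *ᵥ x
      rw [Forms.reflElem_mulVec]
      have happ : Orth.app (SingMax.eIso Q e a he ha) v = s • w := hmove
      rw [happ, QuadraticMap.map_smul, polar_smul_left, smul_smul, smul_eq_mul, smul_eq_mul]
      congr 2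
      field_simp
    rw [hr, ← h1, map_mul, map_mul, map_inv, mul_right_comm, mul_inv_cancel, one_mul]
  have hrr : r * r = 1 := by rw [hr, ← map_mul, Orth.refl_mul_self, map_one]
  have hall : ∀ x, q x = 1 ∨ q x = r := by
    intro x
    induction x using Forms.isometry_induction hQ (Or.inr (by omega)) with
    | h1 => exact Or.inl (map_one q)
    | hr w hw x hx =>
      rcases hx with hx | hx
      · exact Or.inr (by rw [map_mul, hrefl w hw, hx, mul_one])
      · exact Or.inl (by rw [map_mul, hrefl w hw, hx, hrr])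
  rcases hall g with h | h
  · exact Or.inl (hker g h)
  · exact Or.inr (hker _ (by rw [map_mul, h, ← hr, hrr]))

/-- Any isometry is in `Ω` up to reflections in one summand. -/
theorem exists_correction [Finite F] (hQ : (QuadraticMap.polarBilin Q).Nondegenerate) (hn : 7 ≤ Fintype.card ι)
    (h : Dec Q k D) (hk : 3 ≤ k) (l : Fin t) (g : ↥(Cfsg.isometryGroup F ⇑Q)) :
    ∃ r : ↥(Cfsg.isometryGroup F ⇑Q), r * g ∈ Cfsg.Omega F ⇑Q ∧
      (∀ x ∈ D l, Orth.app r x ∈ D l) ∧ ∀ j, j ≠ l → ∀ x ∈ D j, Orth.app r x = x := by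
  obtain ⟨e, he, he0, heQ⟩ := exists_singular_mem (Q := Q) (K := D l) (by rw [h.finrank_eq]; exact hk)
  obtain ⟨d, hd, hdQ, hed⟩ := h.exists_partner hQ he he0 heQ
  have hval : ∀ c : F, Q (e + c • d) = c := fun c => by
    rw [QuadraticMap.map_add (⇑Q), QuadraticMap.map_smul, polar_smul_right, heQ, hdQ, hed]; simp
  let Good : ↥(Cfsg.isometryGroup F ⇑Q) → Prop := fun r =>
    (∀ x ∈ D l, Orth.app r x ∈ D l) ∧ ∀ j, j ≠ l → ∀ x ∈ D j, Orth.app r x = x
  have hgood : ∀ (v : Vs) (hv : Q v ≠ 0), v ∈ D l → Good (Orth.refl Q v hv) := fun v hv hvD =>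
    ⟨fun x hx => by rw [Orth.app_refl]; exact (D l).sub_mem hx ((D l).smul_mem _ hvD),
      fun j hj x hx => Orth.app_refl_of_polar_eq_zero hv (h.orth hj.symm hvD hx)⟩
  have hmul : ∀ r r', Good r → Good r' → Good (r * r') := fun r r' h1 h3 =>
    ⟨fun x hx => by rw [Orth.app_mul]; exact h1.1 _ (h3.1 x hx),
      fun j hj x hx => by rw [Orth.app_mul, h3.2 j hj x hx, h1.2 j hj x hx]⟩
  have hone : Good 1 := ⟨fun x hx => by simpa using hx, fun j _ x _ => by simp⟩
  by_cases h2 : (2 : F) = 0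
  · haveI : CharP F 2 := CharTwo.of_one_ne_zero_of_two_eq_zero one_ne_zero h2
    have hv : Q (e + (1 : F) • d) ≠ 0 := by rw [hval]; exact one_ne_zero
    rcases mem_omega_or_two hQ hn hv g with hg | hg
    · exact ⟨1, by rwa [one_mul], hone⟩
    · exact ⟨_, hg, hgood _ hv ((D l).add_mem he ((D l).smul_mem _ hd))⟩
  haveI := Fintype.ofFinite F
  have hchar : ringChar F ≠ 2 := fun hc => h2 (by
    haveI := ringChar.of_eq hc
    exact CharTwo.two_eq_zero)
  obtain ⟨ns, hns⟩ := FiniteField.exists_nonsquare hchar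
  have hns0 : ns ≠ 0 := fun h0 => hns (h0 ▸ IsSquare.zero)
  obtain ⟨va, hvaD, hva⟩ : ∃ v ∈ D l, Q v = 1 :=
    ⟨_, (D l).add_mem he ((D l).smul_mem 1 hd), hval 1⟩
  obtain ⟨vb, hvbD, hvb⟩ : ∃ v ∈ D l, Q v = ns :=
    ⟨_, (D l).add_mem he ((D l).smul_mem ns hd), hval ns⟩
  have h1 : Q va ≠ 0 := by rw [hva]; exact one_ne_zero
  have h3 : Q vb ≠ 0 := by rw [hvb]; exact hns0
  set a := Orth.refl Q _ h1 with ha
  set b := Orth.refl Q _ h3 with hb
  have hda := Orth.detSign_refl h2 hQ h1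
  have hdb := Orth.detSign_refl h2 hQ h3
  have hsa := Orth.spinor_refl_of_isSquare h2 h1 (by rw [hva]; exact IsSquare.one)
  have hsb := Orth.spinor_refl_of_not_isSquare h2 h3 (by rw [hvb]; exact hns)
  have hga := hgood _ h1 hvaD
  have hgb := hgood _ h3 hvbD
  have hmem := fun x => Orth.mem_omega_iff h2 hQ (by omega : 2 ≤ Fintype.card ι) x
  rcases Int.units_eq_one_or (Orth.detSign Q h2 hQ g) with hdg | hdg <;>
    rcases Int.units_eq_one_or (Orth.spinor Q g) with hsg | hsg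
  · exact ⟨1, (hmem _).mpr (by simp [hdg, hsg]), hone⟩
  · exact ⟨a * b, (hmem _).mpr (by simp [ha, hb, hdg, hsg, hda, hdb, hsa, hsb]), hmul _ _ hga hgb⟩
  · exact ⟨b, (hmem _).mpr (by simp [hb, hdg, hsg, hdb, hsb]), hgb⟩
  · exact ⟨a, (hmem _).mpr (by simp [ha, hdg, hsg, hda, hsa]), hga⟩

/-- The isometry exchanging two isometric summands. -/
theorem exists_swap (hQ : (QuadraticMap.polarBilin Q).Nondegenerate) (h : Dec Q k D) {a b : Fin t} (hab : a ≠ b)
    (e : D a ≃ₗ[F] D b) (he : ∀ x : D a, Q ((e x : D b) : Vs) = Q (x : Vs)) :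
    ∃ g : ↥(Cfsg.isometryGroup F ⇑Q), (∀ x ∈ D a, Orth.app g x ∈ D b) ∧ (∀ x ∈ D b, Orth.app g x ∈ D a) ∧
      ∀ j, j ≠ a → j ≠ b → ∀ x ∈ D j, Orth.app g x = x := by
  let pa : Vs →ₗ[F] D a := (h.proj a).codRestrict (D a) (h.proj_mem a)
  let pb : Vs →ₗ[F] D b := (h.proj b).codRestrict (D b) (h.proj_mem b)
  let L : Vs →ₗ[F] Vs := LinearMap.id - h.proj a - h.proj b +
    (D b).subtype.comp (e.toLinearMap.comp pa) + (D a).subtype.comp (e.symm.toLinearMap.comp pb)
  have hL : ∀ x, L x = x - h.proj a x - h.proj b x + (e (pa x) : Vs) + (e.symm (pb x) : Vs) := fun x => rfl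
  have hA : ∀ x, h.proj a (L x) = (e.symm (pb x) : Vs) := fun x => by
    rw [hL]
    simp [map_add, map_sub, h.proj_of_mem (h.proj_mem a x), h.proj_of_mem_ne hab (h.proj_mem b x),
      h.proj_of_mem_ne hab (e (pa x)).2, h.proj_of_mem (e.symm (pb x)).2]
  have hB : ∀ x, h.proj b (L x) = (e (pa x) : Vs) := fun x => by
    rw [hL]
    simp [map_add, map_sub, h.proj_of_mem (h.proj_mem b x), h.proj_of_mem_ne hab.symm (h.proj_mem a x),
      h.proj_of_mem (e (pa x)).2, h.proj_of_mem_ne hab.symm (e.symm (pb x)).2]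
  have hO : ∀ j, j ≠ a → j ≠ b → ∀ x, h.proj j (L x) = h.proj j x := fun j hja hjb x => by
    rw [hL]
    simp [map_add, map_sub, h.proj_of_mem_ne hja (h.proj_mem a x), h.proj_of_mem_ne hjb (h.proj_mem b x),
      h.proj_of_mem_ne hjb (e (pa x)).2, h.proj_of_mem_ne hja (e.symm (pb x)).2]
  have hpa : ∀ x, pa (L x) = e.symm (pb x) := fun x => Subtype.ext (hA x)
  have hpb : ∀ x, pb (L x) = e (pa x) := fun x => Subtype.ext (hB x)
  have hinv : ∀ x, L (L x) = x := by
    intro x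
    rw [hL (L x), hA, hB, hpa, hpb, LinearEquiv.apply_symm_apply, LinearEquiv.symm_apply_apply, hL]
    simp only [pa, pb, LinearMap.codRestrict_apply]
    abel
  have hQL : ∀ x, Q (L x) = Q x := by
    intro x
    have h1 := h.Q_sum (L x) Finset.univ
    have h2 := h.Q_sum x Finset.univ
    rw [h.sum_proj] at h1 h2
    rw [h1, h2, ← Equiv.sum_comp (Equiv.swap a b)]
    refine Finset.sum_congr rfl fun j _ => ?_
    by_cases hja : j = a
    · subst hja; rw [Equiv.swap_apply_left, hB, he]; rfl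
    by_cases hjb : j = b
    · subst hjb; rw [Equiv.swap_apply_right, hA, ← he (e.symm (pb x)), LinearEquiv.apply_symm_apply]; rfl
    rw [Equiv.swap_apply_of_ne_of_ne hja hjb, hO j hja hjb]
  refine ⟨Orth.ofEquiv Q (LinearEquiv.ofInvolutive L hinv) hQL, fun x hx => ?_, fun x hx => ?_, fun j hja hjb x hx => ?_⟩
  · erw [Orth.app_ofEquiv]
    show L x ∈ D b
    rw [hL, h.proj_of_mem hx, h.proj_of_mem_ne hab.symm hx,
      show pb x = 0 from Subtype.ext (h.proj_of_mem_ne hab.symm hx), map_zero]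
    simp
  · erw [Orth.app_ofEquiv]
    show L x ∈ D a
    rw [hL, h.proj_of_mem hx, h.proj_of_mem_ne hab hx,
      show pa x = 0 from Subtype.ext (h.proj_of_mem_ne hab hx), map_zero]
    simp
  · erw [Orth.app_ofEquiv]
    show L x = x
    rw [hL, show pa x = 0 from Subtype.ext (h.proj_of_mem_ne (Ne.symm hja) hx),
      show pb x = 0 from Subtype.ext (h.proj_of_mem_ne (Ne.symm hjb) hx),
      h.proj_of_mem_ne (Ne.symm hja) hx, h.proj_of_mem_ne (Ne.symm hjb) hx]
    simp

theorem mem_decompositionStabilizer (h : Dec Q k D) {g : GL ι F} (σ : Equiv.Perm (Fin t))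
    (hg : ∀ i, ∀ x ∈ D i, ap g x ∈ D (σ i)) : g ∈ Cfsg.Geo.decompositionStabilizer D := by
  refine ⟨σ, fun i => Submodule.eq_of_le_of_finrank_eq ?_ ?_⟩
  · rintro _ ⟨x, hx, rfl⟩
    rw [Matrix.toLin'_apply]; exact hg i x hx
  · have hinj : Function.Injective (Matrix.toLin' (g : Matrix ι ι F)) := fun x y e =>
      ap_injective g (by simpa [Matrix.toLin'_apply] using e)
    rw [← (Submodule.equivMapOfInjective _ hinj (D i)).finrank_eq, h.finrank_eq, h.finrank_eq]

/-- The stabiliser of an orthogonal decomposition is maximal. -/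
theorem isMaximalIn_decomp [Finite F] (hQ : (QuadraticMap.polarBilin Q).Nondegenerate) (hn : 7 ≤ Fintype.card ι)
    (h : Dec Q k D) (hk : 3 ≤ k) (h3 : k = 3 → (2 : F) ≠ 0 ∧ 5 ≤ Nat.card F)
    (h4 : k = 4 → Nat.card F = 2 → ∀ i, ∀ x ∈ D i, ∀ z ∈ D i,
      Q x = 0 → Q z = 0 → polar ⇑Q x z = 0 → x ≠ 0 → ∃ c : F, z = c • x)
    (hiso : t = 2 ∨ ∀ i j, Cfsg.Geo.AreIsometricFor (⇑Q) (D i) (D j)) :
    Cfsg.Geo.IsMaximalIn (Cfsg.Geo.omegaGL ⇑Q)
      (Cfsg.Geo.decompositionStabilizer D ⊓ Cfsg.Geo.omegaGL ⇑Q) := by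
  classical
  have ht : 2 ≤ t := h.nd.decomp.two_le
  set H := Cfsg.Geo.decompositionStabilizer D ⊓ Cfsg.Geo.omegaGL ⇑Q with hH
  have hisoΩ : ∀ g ∈ Cfsg.Geo.omegaGL ⇑Q, ∀ y, Q (ap g y) = Q y := by
    rintro _ ⟨g, -, rfl⟩ y
    exact Orth.mem_isometryGroup_iff.1 g.2 y
  have hrootH : ∀ i, ∀ e ∈ D i, ∀ b ∈ D i, ∀ (he : Q e = 0) (hb : polar ⇑Q e b = 0),
      eichlerGL Q e b he hb ∈ H := by
    intro i e hei b hbi he hb
    refine ⟨mem_decompositionStabilizer h 1 fun j x hx => ?_, SingMax.E_mem_omega hQ hn he hb⟩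
    rw [ap_E, Equiv.Perm.one_apply]
    by_cases hji : j = i
    · subst hji; exact (D j).add_mem hx (R_mem hei hbi x)
    · rw [R_of_orth (h.orth (Ne.symm hji) hei hx) (h.orth (Ne.symm hji) hbi hx), add_zero]; exact hx
  have hcommH : ∀ i, ∀ a ∈ D i, ∀ s ∈ D i, ∀ (ha : Q a ≠ 0) (hs : Q s ≠ 0), ∃ g ∈ H, ∀ x,
      ap g x = Orth.reflFun Q a (Orth.reflFun Q s (Orth.reflFun Q a (Orth.reflFun Q s x))) := by
    intro i a hai s hsi ha hs
    set g := Orth.refl Q a ha * Orth.refl Q s hs * (Orth.refl Q a ha)⁻¹ * (Orth.refl Q s hs)⁻¹ with hgdef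
    have happ : ∀ x, ap (g : GL ι F) x =
        Orth.reflFun Q a (Orth.reflFun Q s (Orth.reflFun Q a (Orth.reflFun Q s x))) := fun x => by
      show Orth.app g x = _
      rw [hgdef, Orth.refl_inv, Orth.refl_inv, Orth.app_mul, Orth.app_mul, Orth.app_mul]
      simp only [Orth.app_refl]
      rfl
    refine ⟨g, ⟨mem_decompositionStabilizer h 1 fun j x hx => ?_,
      Subgroup.mem_map_of_mem _ (Subgroup.commutator_mem_commutator (Subgroup.mem_top _) (Subgroup.mem_top _))⟩, happ⟩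
    rw [happ, Equiv.Perm.one_apply]
    by_cases hji : j = i
    · subst hji
      have hr : ∀ v ∈ D j, ∀ w ∈ D j, Orth.reflFun Q v w ∈ D j := fun v hv w hw =>
        (D j).sub_mem hw ((D j).smul_mem _ hv)
      exact hr a hai _ (hr s hsi _ (hr a hai _ (hr s hsi _ hx)))
    · have ea : polar ⇑Q a x = 0 := h.orth (Ne.symm hji) hai hx
      have es : polar ⇑Q s x = 0 := h.orth (Ne.symm hji) hsi hx
      simpa [Orth.reflFun, ea, es] using hx
  have hperm : ∀ i l l' : Fin t, l ≠ i → l' ≠ i → l ≠ l' →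
      ∃ g ∈ H, (∀ x ∈ D i, ap g x = x) ∧ ∀ y ∈ D l', ∃ x ∈ D l, ap g x = y := by
    intro i l l' hli hl'i hll
    rcases hiso with h2 | hiso
    · exfalso; subst h2; omega
    obtain ⟨e, he⟩ := hiso l l'
    obtain ⟨s, hs1, hs2, hs3⟩ := exists_swap hQ h hll e he
    obtain ⟨r, hr, hr1, hr2⟩ := exists_correction hQ hn h hk l' s
    have hap : ∀ x, ap ((r * s : ↥(Cfsg.isometryGroup F ⇑Q)) : GL ι F) x = Orth.app r (Orth.app s x) :=
      fun x => Orth.app_mul r s x
    refine ⟨_, ⟨mem_decompositionStabilizer h (Equiv.swap l l') fun j x hx => ?_, Subgroup.mem_map_of_mem _ hr⟩,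
      fun x hx => ?_, fun y hy => ?_⟩
    · show ap ((r * s : ↥(Cfsg.isometryGroup F ⇑Q)) : GL ι F) x ∈ _
      rw [hap]
      by_cases h1 : j = l
      · subst h1; rw [Equiv.swap_apply_left]; exact hr1 _ (hs1 x hx)
      by_cases h2 : j = l'
      · subst h2; rw [Equiv.swap_apply_right, hr2 l hll _ (hs2 x hx)]; exact hs2 x hx
      rw [Equiv.swap_apply_of_ne_of_ne h1 h2, hs3 j h1 h2 x hx, hr2 j h2 x hx]
      exact hx
    · show ap ((r * s : ↥(Cfsg.isometryGroup F ⇑Q)) : GL ι F) x = x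
      rw [hap, hs3 i hli.symm hl'i.symm x hx, hr2 i hl'i.symm x hx]
    · have hmap : (D l).map (Matrix.mulVecLin (((r * s : ↥(Cfsg.isometryGroup F ⇑Q)) : GL ι F) : Matrix ι ι F)) = D l' := by
        refine Submodule.eq_of_le_of_finrank_eq ?_ ?_
        · rintro _ ⟨x, hx, rfl⟩
          show ap ((r * s : ↥(Cfsg.isometryGroup F ⇑Q)) : GL ι F) x ∈ _
          rw [hap]; exact hr1 _ (hs1 x hx)
        · rw [← (Submodule.equivMapOfInjective _ (ap_injective _) (D l)).finrank_eq, h.finrank_eq, h.finrank_eq]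
      exact hmap.ge hy
  refine ⟨lt_of_le_of_ne inf_le_right fun heq => ?_, fun M hHM hMΩ => ?_⟩
  · -- some Eichler element moves the summands
    let i : Fin t := ⟨0, by omega⟩
    let l : Fin t := ⟨1, by omega⟩
    have hil : i ≠ l := by simp [i, l, Fin.ext_iff]
    obtain ⟨e, he, he0, heQ⟩ := exists_singular_mem (Q := Q) (K := D i) (by rw [h.finrank_eq]; exact hk)
    obtain ⟨v, hv, hev⟩ := h.exists_in hQ (u := ![e]) (i := i) (fun o => by fin_cases o; exact he)
      (LinearIndependent.of_subsingleton (i := (0 : Fin 1)) he0) ![1]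
    replace hev : polar ⇑Q e v = 1 := hev 0
    obtain ⟨a, ha, ha0⟩ := exists_mem_notMem (S := D l) (T := ⊥) (by rw [finrank_bot, h.finrank_eq]; omega)
    have ha0' : a ≠ 0 := by simpa using ha0
    have hea : polar ⇑Q e a = 0 := h.orth hil he ha
    have hm : eichlerGL Q e a heQ hea ∈ H := by rw [heq]; exact SingMax.E_mem_omega hQ hn heQ hea
    obtain ⟨σ, hσ⟩ := hm.1
    have h1 : ap (eichlerGL Q e a heQ hea) v ∈ D (σ i) := hσ i ▸ ⟨v, hv, Matrix.toLin'_apply _ _⟩
    rw [ap_E, R, hev, one_smul, polar_comm _ a v, h.orth hil hv ha, zero_add, mul_one] at h1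
    by_cases hsi : σ i = i
    · rw [hsi] at h1
      have h2 := congrArg id (h.proj_of_mem_ne hil.symm h1)
      simp only [id, map_add, map_sub, map_smul, h.proj_of_mem_ne hil.symm hv, h.proj_of_mem_ne hil.symm he,
        h.proj_of_mem ha, smul_zero, sub_zero, zero_add] at h2
      exact ha0' h2
    · have h2 := h.proj_of_mem_ne (Ne.symm hsi) h1
      rw [map_add, map_sub, map_smul, h.proj_of_mem hv, h.proj_of_mem he, h.proj_of_mem_ne hil ha, zero_sub] at h2
      have h3 := congrArg (polar ⇑Q e) h2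
      rw [polar_zero_right, polar_add_right, hev, polar_neg_right, polar_smul_right, polar_self, heQ] at h3
      simp at h3
  have hisoM : ∀ g ∈ M, ∀ y, Q (ap g y) = Q y := fun g hg => hisoΩ g (hMΩ hg)
  have C : Conf Q k D M := ⟨hQ, h, hk, h3, h4, hisoM, fun i e he b hb heQ heb => hHM (hrootH i e he b hb heQ heb),
    fun i a ha s hs h1 h2 => by
      obtain ⟨g, hg, hgx⟩ := hcommH i a ha s hs h1 h2
      exact ⟨g, hHM hg, hgx⟩⟩
  by_cases hN : NG Q D M
  · left
    refine le_antisymm (fun g hg => ⟨?_, hMΩ hg⟩) hHM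
    choose σ hσ using fun i => C.exists_map hN hg i
    have hinj : Function.Injective σ := by
      intro i i' hii
      by_contra hne
      have hm : ∀ j, (D j).map (Matrix.mulVecLin (g : Matrix ι ι F)) = D (σ j) := fun j => by
        refine Submodule.eq_of_le_of_finrank_eq ?_ ?_
        · rintro _ ⟨x, hx, rfl⟩; exact hσ j x hx
        · rw [← (Submodule.equivMapOfInjective (Matrix.mulVecLin (g : Matrix ι ι F)) (ap_injective g) (D j)).finrank_eq,
            h.finrank_eq, h.finrank_eq]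
      obtain ⟨x, hx, hx0⟩ := exists_mem_notMem (S := D i) (T := ⊥) (by rw [finrank_bot, h.finrank_eq]; omega)
      obtain ⟨y, hy, hyx⟩ := (((hm i).trans (hii ▸ (hm i').symm)).le ⟨x, hx, rfl⟩)
      exact hx0 (by rw [Submodule.mem_bot]; exact h.disjoint hne hx (ap_injective g hyx ▸ hy))
    exact mem_decompositionStabilizer h (Equiv.ofBijective σ (Finite.injective_iff_bijective.mp hinj)) hσ
  right
  refine le_antisymm hMΩ ?_
  simp only [NG, not_forall] at hN
  obtain ⟨i, e, he, he0, heQ, m, hm, hme, z, hz, hez, hout⟩ := hN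
  let A : AddSubgroup Vs :=
    { carrier := {a | ∃ ha : polar ⇑Q e a = 0, eichlerGL Q e a heQ ha ∈ M}
      add_mem' := by
        rintro a b ⟨ha, ha'⟩ ⟨hb, hb'⟩
        exact ⟨by rw [polar_add_right, ha, hb, add_zero], SingMax.E_add heQ ha hb ▸ M.mul_mem ha' hb'⟩
      zero_mem' := ⟨by rw [polar_zero_right], by
        convert M.one_mem
        refine SingMax.gl_ext' fun x => ?_
        rw [eichlerGL_mulVec]; simp⟩
      neg_mem' := by
        rintro a ⟨ha, ha'⟩
        refine ⟨by rw [polar_neg_right, ha, neg_zero], ?_⟩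
        have h1 : eichlerGL Q e (-a) heQ (by rw [polar_neg_right, ha, neg_zero]) = (eichlerGL Q e a heQ ha)⁻¹ :=
          eq_inv_of_mul_eq_one_left (by
            rw [SingMax.E_add]
            refine SingMax.gl_ext' fun x => ?_
            rw [eichlerGL_mulVec, neg_add_cancel]; simp)
        rw [h1]; exact M.inv_mem ha' }
  have hconj : ∀ g ∈ M, ap g e = e → ∀ a ∈ A, ap g a ∈ A := by
    rintro g hg hge a ⟨ha, ha'⟩
    have h1 := M.mul_mem (M.mul_mem hg ha') (M.inv_mem hg)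
    rw [SingMax.conj_E (hisoM g hg)] at h1
    refine ⟨?_, ?_⟩
    · conv_lhs => rw [← hge]
      rw [SingMax.polar_of_iso (hisoM g hg), ha]
    · simp only [show ((g : GL ι F) : Matrix ι ι F) *ᵥ e = e from hge] at h1
      exact h1
  have hzA : ap m z ∈ A := hconj m hm hme z ⟨hez, hHM (hrootH i e he z hz heQ hez)⟩
  obtain ⟨l, hli, hl⟩ : ∃ l, l ≠ i ∧ h.proj l (ap m z) ≠ 0 := by
    by_contra hc
    push Not at hc
    exact hout (h.mem_of_proj hc)
  have hDl : ∀ x ∈ D l, x ∈ A := h.le_of_R hQ hk A hl fun n hnD b hbD hnQ hnb => by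
    have hfix : ap (eichlerGL Q n b hnQ hnb) e = e := by
      rw [ap_E, R_of_orth (h.orth hli hnD he) (h.orth hli hbD he), add_zero]
    have h1 := A.sub_mem (hconj _ (hHM (hrootH l n hnD b hbD hnQ hnb)) hfix _ hzA) hzA
    rwa [ap_E, add_sub_cancel_left] at h1
  have hother : ∀ l', l' ≠ i → ∀ x ∈ D l', x ∈ A := by
    intro l' hl'i x hx
    by_cases hll : l' = l
    · exact hDl x (hll ▸ hx)
    obtain ⟨g, hg, hgfix, hgon⟩ := hperm i l l' hli hl'i (Ne.symm hll)
    obtain ⟨x₀, hx₀, rfl⟩ := hgon x hx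
    exact hconj g (hHM hg) (hgfix e he) x₀ (hDl x₀ hx₀)
  have hfull : SingMax.Full Q M e := by
    intro a he' ha
    suffices ha' : a ∈ A from ha'.2
    rw [← h.sum_proj a]
    refine A.sum_mem fun j _ => ?_
    by_cases hji : j = i
    · subst hji
      exact ⟨by rw [h.polar_proj' he, ha],
        hHM (hrootH j e he _ (h.proj_mem j a) heQ (by rw [h.polar_proj' he, ha]))⟩
    · exact hother j hji _ (h.proj_mem j a)
  obtain ⟨d, hd, hdQ, hed⟩ := h.exists_partner hQ he he0 heQ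
  obtain ⟨b, hb, hdb, hQb⟩ : ∃ b ∈ D i, polar ⇑Q d b = 0 ∧ Q b ≠ 0 := by
    obtain ⟨b₀, hb₀, -, hb₀0, heb₀, hdb₀⟩ := h.exists_perp_pair hk he hd heQ hdQ hed
    by_cases hQb₀ : Q b₀ = 0
    swap
    · exact ⟨b₀, hb₀, hdb₀, hQb₀⟩
    have hd0 : d ≠ 0 := fun h0 => one_ne_zero (α := F) (by rw [← hed, h0, polar_zero_right])
    obtain ⟨b₁, hb₁, hbb⟩ := h.exists_in hQ (u := ![d, b₀]) (i := i) (fun o => by fin_cases o <;> assumption)
      (linearIndependent_pair_of_notMem hd0 fun hm => by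
        obtain ⟨c, hc⟩ := Submodule.mem_span_singleton.mp hm
        rw [← hc, polar_smul_right, hed, smul_eq_mul, mul_one] at heb₀
        exact hb₀0 (by rw [← hc, heb₀, zero_smul])) ![0, 1]
    have h1 : polar ⇑Q d b₁ = 0 := hbb 0
    have h2 : polar ⇑Q b₀ b₁ = 1 := hbb 1
    by_cases hQb₁ : Q b₁ = 0
    swap
    · exact ⟨b₁, hb₁, h1, hQb₁⟩
    refine ⟨b₀ + b₁, (D i).add_mem hb₀ hb₁, by rw [polar_add_right, hdb₀, h1, add_zero], ?_⟩
    rw [QuadraticMap.map_add (⇑Q), hQb₀, hQb₁, h2]; simp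
  have hE := hHM (hrootH i d hd b hb hdQ hdb)
  have hfull' := hfull.map hE (hisoM _ hE)
  have heu : polar ⇑Q e (ap (eichlerGL Q d b hdQ hdb) e) = -Q b := by
    rw [ap_E, R, polar_comm _ d e, hed, polar_add_right, polar_sub_right, polar_smul_right, polar_smul_right,
      polar_self, heQ, hed, polar_comm _ e b]
    simp
  refine SingMax.omega_le_of_eichler hQ hn fun u a hu ha => ?_
  by_cases hu0 : u = 0
  · subst hu0
    convert M.one_mem
    refine SingMax.gl_ext' fun y => ?_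
    rw [eichlerGL_mulVec]; simp
  exact SingMax.full_all hQ hfull hfull' heQ (by show Q (ap _ e) = 0; rw [hisoM _ hE, heQ])
    (by show polar ⇑Q e (ap _ e) ≠ 0; rw [heu]; exact neg_ne_zero.mpr hQb) hu hu0 a hu ha

theorem Dec.card_eq (h : Dec Q k D) : t * k = Fintype.card ι := by
  have h1 := (LinearEquiv.ofBijective (Dec.sumHom D) h.sumHom_bijective).finrank_eq
  rw [Module.finrank_pi_fintype, Module.finrank_fintype_fun_eq_card] at h1
  simp only [h.finrank_eq, Finset.sum_const, Finset.card_univ, Fintype.card_fin, smul_eq_mul] at h1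
  exact h1

theorem two_ne_zero_of_odd [Fintype F] (hodd : Odd (Fintype.card F)) : (2 : F) ≠ 0 := fun h2 => by
  haveI : CharP F 2 := CharTwo.of_one_ne_zero_of_two_eq_zero one_ne_zero h2
  have h1 : Fintype.card F % 2 = 0 := FiniteField.even_card_iff_char_two.mp (ringChar.eq F 2)
  rw [Nat.odd_iff] at hodd
  omega

end Cfsg.Agent.Lib.OrthMax
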