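import Cfsg.Agent.Lib.OrthMax.Lines

/-!
The spread configuration is impossible: a group without good root centres permutes the summands.
-/

set_option autoImplicit false
set_option linter.unusedSectionVars false

namespace Cfsg.Agent.Lib.OrthMax

open Matrix QuadraticMap
open Cfsg.Agent.Lib.FormMax.OrthSL (eichlerGL eichlerGL_mulVec Q_eichlerGL)

variable {ι : Type} [Fintype ι] [DecidableEq ι] {F : Type*} [Field F]
  {Q : QuadraticForm F (ι → F)} {t k : ℕ} {D : Fin t → Submodule F (ι → F)}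
  {M : Subgroup (GL ι F)}

local notation "Vs" => (ι → F)

/-- The kernel of a map with image in a line. -/
theorem le_finrank_inf_ker_line (X : Submodule F Vs) (φ : Vs →ₗ[F] Vs) (v : Vs) (h : ∀ x ∈ X, φ x ∈ (F ∙ v)) :
    Module.finrank F X ≤ Module.finrank F (X ⊓ LinearMap.ker φ : Submodule F Vs) + 1 := by
  have h1 := (φ.comp X.subtype).finrank_range_add_finrank_ker
  have h2 : Module.finrank F (φ.comp X.subtype).range ≤ 1 := by
    refine (Submodule.finrank_mono (show (φ.comp X.subtype).range ≤ (F ∙ v) from ?_)).trans ?_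
    · rintro _ ⟨x, rfl⟩; exact h _ x.2
    · simpa [Set.finrank] using finrank_span_le_card (R := F) ({v} : Set Vs)
  have h3 : Module.finrank F (φ.comp X.subtype).ker = Module.finrank F (X ⊓ LinearMap.ker φ : Submodule F Vs) := by
    rw [LinearMap.ker_comp, ← Submodule.map_comap_subtype]
    exact (Submodule.equivMapOfInjective _ X.subtype_injective _).finrank_eq
  omega

namespace Conf

variable [Finite F] (C : Conf Q k D M) (hN : NG Q D M)
include C hN

theorem exists_single {g : GL ι F} (hg : g ∈ M) {i : Fin t} {e : Vs} (he : e ∈ D i) (he0 : e ≠ 0)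
    (heQ : Q e = 0) : ∃ j, ap g e ∈ D j := by
  classical
  by_contra hc
  push Not at hc
  set f := ap g e with hf
  obtain ⟨j, -, hfj⟩ := C.exists_other hN hg he he0 heQ hc i
  set fj := C.dec.proj j f with hfjdef
  set A := (D i).map (Matrix.mulVecLin (g : Matrix ι ι F)) with hA
  set K := Ys Q D g i e ⊓ LinearMap.ker (C.dec.proj j) with hK
  have hKdim : k ≤ Module.finrank F K + 2 := by
    have h1 := le_finrank_inf_ker_line (Ys Q D g i e) (C.dec.proj j) fj
      fun y hy => C.proj_mem_line hN hg he he0 heQ hc j hy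
    have h2 := C.finrank_Ys g he he0
    rw [hK]; omega
  have hk := C.three
  obtain ⟨x₀, hx₀, hx₀n⟩ := exists_mem_notMem (S := K) (T := ⊥) (by rw [finrank_bot]; omega)
  obtain ⟨u, ⟨huD, heu⟩, hux⟩ := mem_Ys.mp hx₀.1
  have hu0 : u ≠ 0 := fun h => hx₀n (by rw [← hux, h]; simp [ap])
  have hbase : ∀ n ∈ D j, ∀ b ∈ D j, ∀ (hnQ : Q n = 0) (hnb : polar ⇑Q n b = 0),
      let g' := g⁻¹ * eichlerGL Q n b hnQ hnb * g
      g' ∈ M ∧ ap g' e = e + ap g⁻¹ (R Q n b f) ∧ ∀ z, ap g z ∈ K → ap g' z = z := by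
    intro n hn b hb hnQ hnb g'
    refine ⟨M.mul_mem (M.mul_mem (M.inv_mem hg) (C.root j n hn b hb hnQ hnb)) hg, ?_, fun z hz => ?_⟩
    · simp only [g']
      rw [ap_mul, ap_mul, ap_E, ap_add, ap_inv_ap]
    · have h0 : C.dec.proj j (ap g z) = 0 := hz.2
      simp only [g']
      rw [ap_mul, ap_mul, ap_E, R_of_orth (by rw [← C.dec.polar_proj' hn, h0, polar_zero_right])
        (by rw [← C.dec.polar_proj' hb, h0, polar_zero_right]), add_zero, ap_inv_ap]
  have hdich : ∀ n ∈ D j, ∀ b ∈ D j, ∀ (hnQ : Q n = 0) (_hnb : polar ⇑Q n b = 0),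
      e + ap g⁻¹ (R Q n b f) ∈ D i ∨
        ∀ z, ap g z ∈ K → z ∈ D i → polar ⇑Q e z = 0 → z ∈ (F ∙ C.dec.proj i (e + ap g⁻¹ (R Q n b f))) := by
    intro n hn b hb hnQ hnb
    obtain ⟨hg', he', hfix⟩ := hbase n hn b hb hnQ hnb
    set g' := g⁻¹ * eichlerGL Q n b hnQ hnb * g with hg'def
    by_cases hs : ∃ l, ap g' e ∈ D l
    · obtain ⟨l, hl⟩ := hs
      left
      have h1 : ap g' u ∈ D l := C.single hN hg' he he0 heQ hl huD heu
      rw [hfix u (hux ▸ hx₀)] at h1
      have hli : l = i := by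
        by_contra hne
        exact hu0 (C.dec.disjoint hne h1 huD)
      rwa [← he', ← hli]
    · push Not at hs
      right
      intro z hz hzD hez
      have h1 := C.proj_mem_line hN hg' he he0 heQ hs i (mem_Ys.mpr ⟨z, ⟨hzD, hez⟩, rfl⟩)
      rwa [hfix z hz, C.dec.proj_of_mem hzD, he'] at h1
  have hroot : ∀ n ∈ D j, ∀ b ∈ D j, Q n = 0 → polar ⇑Q n b = 0 → R Q n b f ∈ A := by
    intro n hn b hb hnQ hnb
    suffices h : e + ap g⁻¹ (R Q n b f) ∈ D i by
      refine ⟨ap g⁻¹ (R Q n b f), ?_, ap_ap_inv g _⟩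
      simpa using (D i).sub_mem h he
    by_contra hin
    have hline := (hdich n hn b hb hnQ hnb).resolve_left hin
    have hle : K ≤ (F ∙ C.dec.proj i (e + ap g⁻¹ (R Q n b f))).map (Matrix.mulVecLin (g : Matrix ι ι F)) := by
      intro x hx
      obtain ⟨z, ⟨hzD, hez⟩, hzx⟩ := mem_Ys.mp hx.1
      exact ⟨z, hline z (hzx ▸ hx) hzD hez, hzx⟩
    have h1 : Module.finrank F K ≤ 1 := by
      refine (Submodule.finrank_mono hle).trans ((Submodule.finrank_map_le _ _).trans ?_)
      simpa [Set.finrank] using finrank_span_le_card (R := F) ({C.dec.proj i (e + ap g⁻¹ (R Q n b f))} : Set Vs)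
    obtain ⟨-, hq⟩ := C.case_three (by omega)
    set P := ap g⁻¹ (polar ⇑Q n f • b - polar ⇑Q b f • n) with hP
    set S := ap g⁻¹ ((Q b * polar ⇑Q n f) • n) with hS
    have hc' : ∀ c : F, ap g⁻¹ (R Q n (c • b) f) = c • P - (c * c) • S := fun c => by
      rw [R_smul, ap_sub, ap_smul, ap_smul]
    have h1w : ap g⁻¹ (R Q n b f) = P - S := by
      have := hc' 1
      rwa [one_smul, one_mul, one_smul, one_smul] at this
    -- three other scalars with image on the line through `u`
    let φ : Vs →ₗ[F] Vs := LinearMap.id - C.dec.proj i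
    have hφ0 : φ e = 0 := by simp [φ, C.dec.proj_of_mem he]
    haveI := Fintype.ofFinite F
    set U := Finset.univ.filter (fun c : F => c ≠ 0 ∧ e + ap g⁻¹ (R Q n (c • b) f) ∈ D i) with hU
    have hU1 : U.card ≤ 1 := by
      refine Finset.card_le_one.mpr fun c1 hc1 c2 hc2 => ?_
      by_contra hne
      obtain ⟨h10, h11⟩ := (Finset.mem_filter.mp hc1).2
      obtain ⟨h20, h21⟩ := (Finset.mem_filter.mp hc2).2
      have hz : ∀ c : F, e + ap g⁻¹ (R Q n (c • b) f) ∈ D i → c • φ P - (c * c) • φ S = 0 := by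
        intro c hm
        have h2 : φ (e + ap g⁻¹ (R Q n (c • b) f)) = 0 := by simp [φ, C.dec.proj_of_mem hm]
        rwa [map_add, hφ0, zero_add, hc', map_sub, map_smul, map_smul] at h2
      have e1 : φ P = c1 • φ S := by
        have h2 := congrArg (c1⁻¹ • ·) (hz c1 h11)
        simp only [smul_sub, smul_smul, smul_zero, ← mul_assoc, inv_mul_cancel₀ h10, one_smul, one_mul, sub_eq_zero] at h2
        exact h2
      have e2 : φ P = c2 • φ S := by
        have h2 := congrArg (c2⁻¹ • ·) (hz c2 h21)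
        simp only [smul_sub, smul_smul, smul_zero, ← mul_assoc, inv_mul_cancel₀ h20, one_smul, one_mul, sub_eq_zero] at h2
        exact h2
      have hS0 : φ S = 0 := by
        have h2 : (c1 - c2) • φ S = 0 := by rw [sub_smul, ← e1, ← e2, sub_self]
        exact (smul_eq_zero.mp h2).resolve_left (sub_ne_zero.mpr hne)
      apply hin
      have h2 : φ (e + ap g⁻¹ (R Q n b f)) = 0 := by
        rw [map_add, hφ0, h1w, map_sub, e1, hS0, smul_zero, sub_zero, add_zero]
      rw [LinearMap.sub_apply, LinearMap.id_apply, sub_eq_zero] at h2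
      exact h2 ▸ C.dec.proj_mem _ _
    have hgood : ∀ c : F, c ≠ 0 → c ∉ U → e + c • C.dec.proj i P - (c * c) • C.dec.proj i S ∈ (F ∙ u) := by
      intro c hc0 hcU
      have hn' : ¬ e + ap g⁻¹ (R Q n (c • b) f) ∈ D i := fun h =>
        hcU (Finset.mem_filter.mpr ⟨Finset.mem_univ c, hc0, h⟩)
      have h2 := ((hdich n hn (c • b) ((D j).smul_mem _ hb) hnQ (by rw [polar_smul_right, hnb, smul_zero])).resolve_left hn')
        u (hux ▸ hx₀) huD heu
      obtain ⟨d, hd⟩ := Submodule.mem_span_singleton.mp h2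
      have hd0 : d ≠ 0 := fun h => hu0 (by rw [← hd, h, zero_smul])
      rw [Submodule.mem_span_singleton]
      refine ⟨d⁻¹, ?_⟩
      rw [← hd, smul_smul, inv_mul_cancel₀ hd0, one_smul, map_add, C.dec.proj_of_mem he, hc', map_sub, map_smul,
        map_smul]
      abel
    obtain ⟨c1, h1'⟩ := exists_ne_three (F := F) (m := 5) (insert 0 U)
      (by have := Finset.card_insert_le (0 : F) U; omega) hq
    obtain ⟨c2, h2'⟩ := exists_ne_three (F := F) (m := 5) (insert c1 (insert 0 U))
      (by have := Finset.card_insert_le (0 : F) U; have := Finset.card_insert_le c1 (insert 0 U); omega) hq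
    obtain ⟨c3, h3'⟩ := exists_ne_three (F := F) (m := 5) (insert c2 (insert c1 (insert 0 U)))
      (by have := Finset.card_insert_le (0 : F) U; have := Finset.card_insert_le c1 (insert 0 U)
          have := Finset.card_insert_le c2 (insert c1 (insert 0 U)); omega) hq
    simp only [Finset.mem_insert, not_or] at h1' h2' h3'
    have g1 := hgood c1 h1'.1 h1'.2
    have g2 := hgood c2 h2'.2.1 h2'.2.2
    have g3 := hgood c3 h3'.2.2.1 h3'.2.2.2
    have d12 : C.dec.proj i P - (c1 + c2) • C.dec.proj i S ∈ (F ∙ u) := by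
      refine (Submodule.smul_mem_iff _ (sub_ne_zero.mpr (Ne.symm h2'.1))).mp ?_
      convert Submodule.sub_mem _ g1 g2 using 1
      module
    have d13 : C.dec.proj i P - (c1 + c3) • C.dec.proj i S ∈ (F ∙ u) := by
      refine (Submodule.smul_mem_iff _ (sub_ne_zero.mpr (Ne.symm h3'.2.1))).mp ?_
      convert Submodule.sub_mem _ g1 g3 using 1
      module
    have dS : C.dec.proj i S ∈ (F ∙ u) := by
      refine (Submodule.smul_mem_iff _ (sub_ne_zero.mpr h3'.1)).mp ?_
      convert Submodule.sub_mem _ d12 d13 using 1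
      module
    have dP : C.dec.proj i P ∈ (F ∙ u) := by
      simpa using Submodule.add_mem _ d12 (Submodule.smul_mem _ (c1 + c2) dS)
    have de : e ∈ (F ∙ u) := by
      have := Submodule.add_mem _ (Submodule.sub_mem _ g1 (Submodule.smul_mem _ c1 dP))
        (Submodule.smul_mem _ (c1 * c1) dS)
      convert this using 1
      abel
    obtain ⟨d, hd⟩ := Submodule.mem_span_singleton.mp de
    refine hfj ?_
    rw [hfjdef, hf, ← hd, ap_smul, hux, map_smul, show C.dec.proj j x₀ = 0 from hx₀.2, smul_zero]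
  have hle : D j ≤ A := fun x hx => C.dec.le_of_R C.nondeg C.three A.toAddSubgroup hfj hroot x hx
  have heq : D j = A := Submodule.eq_of_le_of_finrank_le hle (by
    rw [hA, ← (Submodule.equivMapOfInjective (Matrix.mulVecLin (g : Matrix ι ι F)) (ap_injective g) (D i)).finrank_eq,
      C.dec.finrank_eq, C.dec.finrank_eq])
  exact hc j (heq ▸ ⟨e, he, rfl⟩)

/-- Without good centres the group permutes the summands. -/
theorem exists_map {g : GL ι F} (hg : g ∈ M) (i : Fin t) : ∃ j, ∀ x ∈ D i, ap g x ∈ D j := by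
  obtain ⟨e, he, he0, heQ⟩ := exists_singular_mem (Q := Q) (K := D i) (by rw [C.dec.finrank_eq]; exact C.three)
  obtain ⟨d, hd, hdQ, hed⟩ := C.dec.exists_partner C.nondeg he he0 heQ
  obtain ⟨b, hb, -, hb0, heb, hdb⟩ := C.dec.exists_perp_pair C.three he hd heQ hdQ hed
  have hd0 : d ≠ 0 := fun h => one_ne_zero (α := F) (by rw [← hed, h, polar_zero_right])
  obtain ⟨j, hj⟩ := C.exists_single hN hg he he0 heQ
  obtain ⟨l, hl⟩ := C.exists_single hN hg hd hd0 hdQ
  have hjl : l = j := by
    by_contra hne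
    exact hb0 (ap_injective g ((C.dec.disjoint hne (C.single hN hg hd hd0 hdQ hl hb hdb)
      (C.single hN hg he he0 heQ hj hb heb)).trans (by simp [ap])))
  refine ⟨j, fun x hx => ?_⟩
  have h1 := C.single hN hg he he0 heQ hj ((D i).sub_mem hx ((D i).smul_mem (polar ⇑Q e x) hd))
    (by rw [polar_sub_right, polar_smul_right, hed, smul_eq_mul, mul_one, sub_self])
  have h2 := C.single hN hg hd hd0 hdQ (hjl ▸ hl) ((D i).smul_mem (polar ⇑Q e x) hd)
    (by rw [polar_smul_right, polar_self, hdQ, nsmul_zero, smul_zero])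
  have h3 := (D j).add_mem h1 h2
  rwa [← ap_add, sub_add_cancel] at h3

end Conf

end Cfsg.Agent.Lib.OrthMax
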